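import Mathlib

/-!
Two central extensions of an elementary abelian 2-group by another are isomorphic when their
squaring maps agree.
-/

set_option autoImplicit false
set_option linter.style.haveILetI false
set_option linter.unusedSectionVars false

namespace Cfsg.Agent.Lib.Singer76.Square

variable {G : Type*} [Group G] [Finite G]

/-- A complement modulo `Δ` inside a group with all squares in `Δ`. -/
theorem exists_compl (Δ A : Subgroup G) (hΔA : Δ ≤ A) (hsq : ∀ x, x * x ∈ Δ)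
    (hc : ∀ d ∈ Δ, ∀ x : G, x * d = d * x) :
    ∃ H : Subgroup G, Δ ≤ H ∧ H ⊓ A = Δ ∧ ∀ x, ∃ a ∈ A, a⁻¹ * x ∈ H := by
  obtain ⟨H, ⟨hΔH, hHA⟩, hmax⟩ := (Set.toFinite {H : Subgroup G | Δ ≤ H ∧ H ⊓ A ≤ Δ}).exists_maximal
    ⟨Δ, le_rfl, inf_le_left⟩
  have hcomm : ∀ x y : G, y * x * y⁻¹ * x⁻¹ ∈ Δ := fun x y => by
    have h1 := Δ.inv_mem (hsq x)
    have h2 := Δ.inv_mem (hsq y)
    have e : y * x * y⁻¹ * x⁻¹ = (y * x) * (y * x) * (x⁻¹ * (y * y)⁻¹ * x⁻¹) := by group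
    rw [e, hc _ h2 x⁻¹, mul_assoc ((y * y)⁻¹), ← mul_inv_rev]
    exact Δ.mul_mem (hsq _) (Δ.mul_mem h2 h1)
  have hnormH : H.Normal := ⟨fun h hh g => by
    have := H.mul_mem (hΔH (hcomm h g)) hh
    rwa [inv_mul_cancel_right] at this⟩
  haveI hAn : A.Normal := ⟨fun h hh g => by
    have := A.mul_mem (hΔA (hcomm h g)) hh
    rwa [inv_mul_cancel_right] at this⟩
  refine ⟨H, hΔH, le_antisymm hHA (le_inf hΔH hΔA), fun x => ?_⟩
  by_contra! hx
  have hxH : x ∉ H := fun h => hx 1 A.one_mem (by simpa using h)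
  let H' : Subgroup G :=
    { carrier := {g | g ∈ H ∨ x⁻¹ * g ∈ H}
      one_mem' := Or.inl H.one_mem
      mul_mem' := by
        rintro a b (ha | ha) (hb | hb)
        · exact Or.inl (H.mul_mem ha hb)
        · refine Or.inr ?_
          have := H.mul_mem (hnormH.conj_mem a ha x⁻¹) hb
          simpa [mul_assoc] using this
        · exact Or.inr (by rw [← mul_assoc]; exact H.mul_mem ha hb)
        · refine Or.inl ?_
          have := H.mul_mem (H.mul_mem (hΔH (hsq x)) (hnormH.conj_mem _ ha x⁻¹)) hb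
          simpa [mul_assoc] using this
      inv_mem' := by
        rintro a (ha | ha)
        · exact Or.inl (H.inv_mem ha)
        · refine Or.inr ?_
          have h1 := H.mul_mem (hnormH.conj_mem _ (H.inv_mem ha) x⁻¹) (H.inv_mem (hΔH (hsq x)))
          have h2 := hnormH.conj_mem _ h1 1
          simpa [mul_assoc] using h2 }
  have hle : H' ≤ H := by
    refine hmax ⟨fun d hd => Or.inl (hΔH hd), ?_⟩ (fun g hg => Or.inl hg)
    rintro g ⟨hg | hg, hgA⟩
    · exact hHA ⟨hg, hgA⟩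
    · exfalso
      refine hx (x * g * x⁻¹) (hAn.conj_mem g hgA x) ?_
      have := hnormH.conj_mem _ (H.inv_mem hg) x
      have := H.mul_mem this (H.one_mem)
      simpa [mul_assoc] using this
  exact hxH (hle (Or.inr (by simp)))

/-- The data: a coordinate with values in `V`, a coordinate on its kernel, and the squaring map. -/
structure SqData (P : Type*) [Group P] (V : Type*) [AddCommGroup V] (F : Type*) [AddCommGroup F]
    (S : V → F) where
  κ : P → V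
  ι : P → F
  κ_mul : ∀ a b, κ (a * b) = κ a + κ b
  κ_surj : Function.Surjective κ
  central : ∀ z, κ z = 0 → ∀ y, y * z = z * y
  ι_mul : ∀ a b, κ a = 0 → κ b = 0 → ι (a * b) = ι a + ι b
  ι_inj : ∀ a b, κ a = 0 → κ b = 0 → ι a = ι b → a = b
  ι_surj : ∀ u, ∃ z, κ z = 0 ∧ ι z = u
  sq : ∀ x, κ (x * x) = 0
  ι_sq : ∀ x, ι (x * x) = S (κ x)

variable {V : Type*} [AddCommGroup V] {F : Type*} [AddCommGroup F] {S : V → F}

theorem SqData.κ_one {P : Type*} [Group P] (D : SqData P V F S) : D.κ 1 = 0 := by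
  have := D.κ_mul 1 1
  rw [mul_one] at this
  exact left_eq_add.1 this

theorem SqData.ι_one {P : Type*} [Group P] (D : SqData P V F S) : D.ι 1 = 0 := by
  have := D.ι_mul 1 1 D.κ_one D.κ_one
  rw [mul_one] at this
  exact left_eq_add.1 this

theorem SqData.κ_inv {P : Type*} [Group P] (D : SqData P V F S) (x : P) : D.κ x⁻¹ = - D.κ x := by
  have := D.κ_mul x x⁻¹
  rw [mul_inv_cancel, D.κ_one] at this
  exact eq_neg_of_add_eq_zero_right this.symm

/-- Groups with equal squaring data are isomorphic. -/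
theorem SqData.iso {P P' : Type*} [Group P] [Group P'] [Finite P] [Finite P']
    (D : SqData P V F S) (D' : SqData P' V F S) : Nonempty (P ≃* P') := by
  let R : Subgroup (P × P') :=
    { carrier := {h | D.κ h.1 = D'.κ h.2}
      one_mem' := by simp [D.κ_one, D'.κ_one]
      mul_mem' := fun {a b} (ha : D.κ a.1 = D'.κ a.2) (hb : D.κ b.1 = D'.κ b.2) => by
        show D.κ (a * b).1 = D'.κ (a * b).2
        rw [Prod.fst_mul, Prod.snd_mul, D.κ_mul, D'.κ_mul, ha, hb]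
      inv_mem' := fun {a} (ha : D.κ a.1 = D'.κ a.2) => by
        show D.κ a⁻¹.1 = D'.κ a⁻¹.2
        rw [Prod.fst_inv, Prod.snd_inv, D.κ_inv, D'.κ_inv, ha] }
  let A : Subgroup R :=
    { carrier := {h | D.κ h.1.1 = 0}
      one_mem' := D.κ_one
      mul_mem' := fun {a b} (ha : D.κ a.1.1 = 0) (hb : D.κ b.1.1 = 0) => by
        show D.κ (a.1.1 * b.1.1) = 0
        rw [D.κ_mul, ha, hb, add_zero]
      inv_mem' := fun {a} (ha : D.κ a.1.1 = 0) => by
        show D.κ (a.1.1)⁻¹ = 0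
        rw [D.κ_inv, ha, neg_zero] }
  have hA2 : ∀ h : R, h ∈ A → D'.κ h.1.2 = 0 := fun h hh => h.2.symm.trans hh
  let Δ : Subgroup R :=
    { carrier := {h | h ∈ A ∧ D.ι h.1.1 = D'.ι h.1.2}
      one_mem' := ⟨A.one_mem, by show D.ι 1 = D'.ι 1; rw [D.ι_one, D'.ι_one]⟩
      mul_mem' := fun {a b} ha hb => ⟨A.mul_mem ha.1 hb.1, by
        show D.ι (a.1.1 * b.1.1) = D'.ι (a.1.2 * b.1.2)
        rw [D.ι_mul _ _ ha.1 hb.1, D'.ι_mul _ _ (hA2 a ha.1) (hA2 b hb.1), ha.2, hb.2]⟩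
      inv_mem' := fun {a} ha => ⟨A.inv_mem ha.1, by
        have h1 := D.ι_mul _ _ ha.1 (A.inv_mem ha.1)
        have h2 := D'.ι_mul _ _ (hA2 a ha.1) (hA2 a⁻¹ (A.inv_mem ha.1))
        simp only [InvMemClass.coe_inv, Prod.fst_inv, Prod.snd_inv, mul_inv_cancel, D.ι_one,
          D'.ι_one] at h1 h2 ⊢
        rw [eq_neg_of_add_eq_zero_right h1.symm, eq_neg_of_add_eq_zero_right h2.symm, ha.2]⟩ }
  have hcen : ∀ d ∈ Δ, ∀ x : R, x * d = d * x := fun d hd x =>
    Subtype.ext (Prod.ext (D.central _ hd.1 _) (D'.central _ (hA2 d hd.1) _))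
  have hsq : ∀ x : R, x * x ∈ Δ := fun x => ⟨D.sq x.1.1, by
    show D.ι (x.1.1 * x.1.1) = D'.ι (x.1.2 * x.1.2)
    rw [D.ι_sq, D'.ι_sq, x.2]⟩
  obtain ⟨H, hΔH, hHA, hsplit⟩ := exists_compl Δ A (fun d hd => hd.1) hsq hcen
  let f₁ : H →* P := ((MonoidHom.fst P P').comp R.subtype).comp H.subtype
  let f₂ : H →* P' := ((MonoidHom.snd P P').comp R.subtype).comp H.subtype
  have hmem : ∀ h : H, D.κ h.1.1.1 = 0 → D.ι h.1.1.1 = D'.ι h.1.1.2 := fun h h0 =>
    (show h.1 ∈ Δ from hHA ▸ ⟨h.2, h0⟩).2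
  have b1 : Function.Bijective f₁ := by
    refine ⟨(injective_iff_map_eq_one f₁).2 fun h hh => ?_, fun x => ?_⟩
    · have h1 : h.1.1.1 = 1 := hh
      have h0 : D.κ h.1.1.1 = 0 := by rw [h1, D.κ_one]
      have h2 := hmem h h0
      rw [h1, D.ι_one] at h2
      have h3 : h.1.1.2 = 1 := D'.ι_inj _ _ (hA2 _ h0) D'.κ_one (by rw [D'.ι_one, ← h2])
      exact Subtype.ext (Subtype.ext (Prod.ext h1 h3))
    · obtain ⟨y, hy⟩ := D'.κ_surj (D.κ x)
      let r : R := ⟨(x, y), hy.symm⟩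
      obtain ⟨a, ha, har⟩ := hsplit r
      obtain ⟨z, hz, hzι⟩ := D'.ι_surj (D.ι a.1.1)
      let d : R := ⟨(a.1.1, z), (show D.κ a.1.1 = 0 from ha).trans hz.symm⟩
      refine ⟨⟨d * (a⁻¹ * r), H.mul_mem (hΔH ⟨ha, hzι.symm⟩) har⟩, ?_⟩
      show a.1.1 * (a.1.1⁻¹ * x) = x
      rw [mul_inv_cancel_left]
  have b2 : Function.Bijective f₂ := by
    refine ⟨(injective_iff_map_eq_one f₂).2 fun h hh => ?_, fun y => ?_⟩
    · have h1 : h.1.1.2 = 1 := hh
      have h0 : D.κ h.1.1.1 = 0 := by rw [h.1.2, h1, D'.κ_one]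
      have h2 := hmem h h0
      rw [h1, D'.ι_one] at h2
      have h3 : h.1.1.1 = 1 := D.ι_inj _ _ h0 D.κ_one (by rw [D.ι_one, h2])
      exact Subtype.ext (Subtype.ext (Prod.ext h3 h1))
    · obtain ⟨x, hx⟩ := D.κ_surj (D'.κ y)
      let r : R := ⟨(x, y), hx⟩
      obtain ⟨a, ha, har⟩ := hsplit r
      obtain ⟨z, hz, hzι⟩ := D.ι_surj (D'.ι a.1.2)
      let d : R := ⟨(z, a.1.2), hz.trans (hA2 a ha).symm⟩
      refine ⟨⟨d * (a⁻¹ * r), H.mul_mem (hΔH ⟨hz, hzι⟩) har⟩, ?_⟩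
      show a.1.2 * (a.1.2⁻¹ * y) = y
      rw [mul_inv_cancel_left]
  exact ⟨(MulEquiv.ofBijective f₁ b1).symm.trans (MulEquiv.ofBijective f₂ b2)⟩

/-- Change of coordinates on `V`. -/
def SqData.comp {P : Type*} [Group P] (D : SqData P V F S) {S' : V → F} (T : V ≃+ V)
    (h : ∀ v, S' (T v) = S v) : SqData P V F S' where
  κ x := T (D.κ x)
  ι := D.ι
  κ_mul a b := by rw [D.κ_mul, map_add]
  κ_surj v := by
    obtain ⟨x, hx⟩ := D.κ_surj (T.symm v)
    exact ⟨x, by show T (D.κ x) = v; rw [hx, T.apply_symm_apply]⟩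
  central z hz := D.central z (T.map_eq_zero_iff.1 hz)
  ι_mul a b ha hb := D.ι_mul a b (T.map_eq_zero_iff.1 ha) (T.map_eq_zero_iff.1 hb)
  ι_inj a b ha hb := D.ι_inj a b (T.map_eq_zero_iff.1 ha) (T.map_eq_zero_iff.1 hb)
  ι_surj u := by
    obtain ⟨z, hz, hzu⟩ := D.ι_surj u
    exact ⟨z, by show T (D.κ z) = 0; rw [hz, map_zero], hzu⟩
  sq x := by show T (D.κ (x * x)) = 0; rw [D.sq, map_zero]
  ι_sq x := by rw [D.ι_sq, h]

end Cfsg.Agent.Lib.Singer76.Square
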