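import Cfsg.Agent.Lib.Singer76.Core
import Cfsg.Agent.Lib.Singer76.Square

/-!
The squaring map is the quadratic form `a² + ab + g b²` in suitable coordinates.
-/

set_option autoImplicit false
set_option linter.style.haveILetI false
set_option linter.unusedSectionVars false

namespace Cfsg.Agent.Lib.Singer76

open scoped commutatorElement

variable {Q : Type*} [Group Q] [Finite Q] {F : Type*} [Field F] [Finite F] [CharP F 2] (S : Setup Q F)

namespace Setup

/-- An equivariant extension of the coordinate of `W / C` to `Q`. -/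
theorem exists_a (hsq : ∀ x, x * x ∈ S.C) (h : S.C ≠ ⊤) :
    ∃ a : Q → F, (∀ x y, a (x * y) = a x + a y) ∧ (∀ x, a (S.ρ x) = S.lam * a x) ∧
      ∀ w ∈ S.W, a w = S.ι₁ w := by
  classical
  haveI := S.C_normal
  let T := S.quot h
  let U := Q ⧸ S.C
  have hU : ∀ u : U, u * u = 1 := fun u => by
    obtain ⟨x, rfl⟩ := QuotientGroup.mk_surjective u
    exact (QuotientGroup.eq_one_iff _).2 (hsq x)
  obtain ⟨H, -, hHA, hsplit⟩ := Square.exists_compl (⊥ : Subgroup U) T.C bot_le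
    (fun u => by rw [Subgroup.mem_bot]; exact hU u)
    (fun d hd u => by rw [Subgroup.mem_bot] at hd; subst hd; simp)
  have hcomm : ∀ u v : U, u * v = v * u := fun u v => by
    calc u * v = (u * v)⁻¹ := (inv_eq_of_mul_eq_one_left (hU _)).symm
      _ = v * u := by
        rw [mul_inv_rev, inv_eq_of_mul_eq_one_left (hU u), inv_eq_of_mul_eq_one_left (hU v)]
  choose pr hpr hprH using hsplit
  have huniq : ∀ u : U, ∀ c ∈ T.C, c⁻¹ * u ∈ H → pr u = c := by
    intro u c hc hcH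
    have h1 : c⁻¹ * pr u ∈ H ⊓ T.C := ⟨by
      have := H.mul_mem hcH (H.inv_mem (hprH u))
      rw [mul_inv_rev, inv_inv, mul_assoc, ← mul_assoc u, mul_inv_cancel, one_mul] at this
      exact this, T.C.mul_mem (T.C.inv_mem hc) (hpr u)⟩
    rw [hHA, Subgroup.mem_bot] at h1
    exact (inv_mul_eq_one.1 h1).symm
  let a₀ : Q → F := fun x => T.ι (pr (x : U))
  have ha₀ : ∀ x y, a₀ (x * y) = a₀ x + a₀ y := by
    intro x y
    show T.ι (pr ((x * y : Q) : U)) = _
    rw [QuotientGroup.mk_mul, huniq _ _ (T.C.mul_mem (hpr (x : U)) (hpr (y : U))) (by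
      have := H.mul_mem (hprH (x : U)) (hprH (y : U))
      have e : (pr (x : U) * pr (y : U))⁻¹ * ((x : U) * (y : U)) =
          (pr (x : U))⁻¹ * (x : U) * ((pr (y : U))⁻¹ * (y : U)) := by
        rw [mul_inv_rev, hcomm (pr (y : U))⁻¹, mul_assoc, mul_assoc, ← mul_assoc _ (x : U),
          hcomm (pr (y : U))⁻¹ (x : U), mul_assoc (x : U)]
      rwa [e]), T.ι_mul _ (hpr _) _ (hpr _)]
  have ha₀W : ∀ w ∈ S.W, a₀ w = S.ι₁ w := by
    intro w hw
    show T.ι (pr (w : U)) = _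
    rw [huniq _ _ ((S.mk_mem_quot h).2 hw) (by rw [inv_mul_cancel]; exact H.one_mem), S.quot_ι h hw]
  refine ⟨fun x => ∑ k ∈ Finset.range S.q1, S.lam ^ (S.q1 - k) * a₀ ((S.ρ ^ k) x),
    fun x y => ?_, fun x => ?_, fun w hw => ?_⟩
  · simp only [map_mul, ha₀, mul_add, Finset.sum_add_distrib]
  · set g : ℕ → F := fun k => S.lam ^ (S.q1 - k) * a₀ ((S.ρ ^ k) x) with hg
    have hper : g S.q1 = g 0 := by
      simp [hg, S.ρ_pow, S.lam_pow]
    have hstep : ∀ k ∈ Finset.range S.q1,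
        S.lam ^ (S.q1 - k) * a₀ ((S.ρ ^ k) (S.ρ x)) = S.lam * g (k + 1) := by
      intro k hk
      rw [Finset.mem_range] at hk
      rw [hg]
      show _ = S.lam * (S.lam ^ (S.q1 - (k + 1)) * a₀ ((S.ρ ^ (k + 1)) x))
      rw [← mul_assoc, ← pow_succ', show S.q1 - (k + 1) + 1 = S.q1 - k by omega, pow_succ,
        MulAut.mul_apply]
    show _ = S.lam * ∑ k ∈ Finset.range S.q1, g k
    show ∑ k ∈ Finset.range S.q1, S.lam ^ (S.q1 - k) * a₀ ((S.ρ ^ k) (S.ρ x)) = _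
    rw [Finset.sum_congr rfl hstep, ← Finset.mul_sum]
    congr 1
    have h1 := Finset.sum_range_succ' g S.q1
    rw [Finset.sum_range_succ, hper] at h1
    exact (add_right_cancel h1).symm
  · have hterm : ∀ k ∈ Finset.range S.q1, S.lam ^ (S.q1 - k) * a₀ ((S.ρ ^ k) w) = S.ι₁ w := by
      intro k hk
      rw [Finset.mem_range] at hk
      rw [ha₀W _ (S.apply_pow_mem (fun _ => S.ρ_mem_W) hw k), Coord.pow S (S.coord_W h) hw k,
        ← mul_assoc, ← pow_add, show S.q1 - k + k = S.q1 by omega, S.lam_pow, one_mul]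
    show ∑ k ∈ Finset.range S.q1, S.lam ^ (S.q1 - k) * a₀ ((S.ρ ^ k) w) = _
    rw [Finset.sum_congr rfl hterm, Finset.sum_const, Finset.card_range, nsmul_eq_mul]
    obtain ⟨m, hm⟩ := S.q1_odd
    rw [hm]
    push_cast
    rw [CharTwo.two_eq_zero, zero_mul, zero_add, one_mul]

/-- Recognition data. -/
theorem exists_sqData (hsq : ∀ x, x * x ∈ S.C) (hnc : ∃ x y : Q, x * y ≠ y * x) :
    ∃ g : F, Nonempty (Square.SqData Q (F × F) F (fun v => v.1 ^ 2 + v.1 * v.2 + g * v.2 ^ 2)) := by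
  have hC := S.C_ne_top_of_noncomm hnc
  have hW := S.W_ne_top_of_noncomm hnc
  obtain ⟨a, ha_mul, ha_ρ, ha_W⟩ := S.exists_a hsq hC
  have ha1 : a 1 = 0 := by
    have := ha_mul 1 1
    rw [mul_one] at this
    exact left_eq_add.1 this
  let A₀ : Subgroup Q :=
    { carrier := {x | a x = 0}
      one_mem' := ha1
      mul_mem' := fun {x y} (hx : a x = 0) (hy : a y = 0) => by
        show a (x * y) = 0
        rw [ha_mul, hx, hy, add_zero]
      inv_mem' := fun {x} (hx : a x = 0) => by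
        show a x⁻¹ = 0
        have := ha_mul x x⁻¹
        rw [mul_inv_cancel, ha1, hx, zero_add] at this
        exact this.symm }
  have hb := S.coord_b hsq hW
  have hcC : ∀ x y : Q, ⁅x, y⁆ ∈ S.C := fun x y =>
    S.comm_mem_of_sq (H := ⊤) (fun z _ => hsq z) (Subgroup.mem_top _) (Subgroup.mem_top _)
  have ha_ker : ∀ {x}, a x = 0 → S.b x = 0 → x ∈ S.C := fun {x} h1 h2 => by
    have hx := (S.b_eq_zero hsq).1 h2
    rw [← S.ι₁_eq_zero hx, ← ha_W x hx]; exact h1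
  have hA₀ : S.Coord A₀ S.b := by
    refine ⟨fun x _ y _ => S.b_mul hsq x y, fun v => ?_, fun x (hx : a x = 0) => ?_, fun x _ => S.b_ρ hsq x⟩
    · obtain ⟨x, -, rfl⟩ := hb.surj v
      obtain ⟨w, hw, hwa⟩ := S.ι₁_surj hC (a x)
      refine ⟨w * x, ?_, ?_⟩
      · show a (w * x) = 0
        rw [ha_mul, ha_W w hw, hwa, CharTwo.add_self_eq_zero]
      · rw [S.b_mul hsq, (S.b_eq_zero hsq).2 hw, zero_add]
    · show a (S.ρ x) = 0
      rw [ha_ρ, hx, mul_zero]
  have hA₀comm : ∀ x ∈ A₀, ∀ y ∈ A₀, ⁅x, y⁆ = 1 := fun x hx y hy =>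
    S.comm_of_alternating hA₀ (fun p _ q _ => hcC p q)
      (fun p hp h0 q _ => comm_of_central_left (S.central (ha_ker hp h0)) q) hx hy
  obtain ⟨k, hk⟩ := S.pairing (S.coord_W hC) hA₀ S.β
    (fun p _ p' _ q _ => by
      rw [β, comm_mul_left (S.central (hcC p' q)), S.ι_mul _ (hcC _ _) _ (hcC _ _)]; rfl)
    (fun p _ q _ q' _ => by
      rw [β, comm_mul_right (S.central (hcC p q')), S.ι_mul _ (hcC _ _) _ (hcC _ _)]; rfl)
    (fun p hp h0 q _ => by
      rw [β, comm_of_central_left (S.central ((S.ι₁_eq_zero hp).1 h0)), S.ι_one])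
    (fun p _ q hq h0 => by rw [β, comm_of_central_right (S.central (ha_ker hq h0)), S.ι_one])
    (fun p _ q _ => by rw [β, ← map_commutatorElement, S.ι_ρ _ (hcC p q)]; rfl)
  have hsplit : ∀ x, ∃ w ∈ S.W, ∃ y ∈ A₀, x = w * y ∧ a x = S.ι₁ w ∧ S.b x = S.b y := by
    intro x
    obtain ⟨y, hy, hyb⟩ := hA₀.surj (S.b x)
    have hw : x * y⁻¹ ∈ S.W := by
      refine (S.b_eq_zero hsq).1 ?_
      have := S.b_mul hsq (x * y⁻¹) y
      rw [inv_mul_cancel_right, hyb] at this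
      exact right_eq_add.1 this
    refine ⟨x * y⁻¹, hw, y, hy, (inv_mul_cancel_right x y).symm, ?_, hyb.symm⟩
    have := ha_mul (x * y⁻¹) y
    rw [inv_mul_cancel_right, show a y = 0 from hy, add_zero, ha_W _ hw] at this
    exact this
  -- the squaring map
  let σ : Q → F := fun x => S.ι (x * x)
  have σ_lin : ∀ {H : Subgroup Q} {d : Q → F}, S.Coord H d →
      (∀ x ∈ H, ∀ y ∈ H, ⁅x, y⁆ = 1) → (∀ x ∈ H, d x = 0 → x ∈ S.C) →
      ∃ e, ∀ x ∈ H, σ x = e * d x := by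
    intro H d hd hcom hker
    obtain ⟨z, hz, hz1⟩ := hd.surj 1
    have hadd : ∀ x ∈ H, ∀ y ∈ H, σ (x * y) = σ x + σ y := fun x hx y hy => by
      show S.ι (x * y * (x * y)) = _
      rw [show x * y * (x * y) = x * x * (y * y) by
        rw [mul_assoc, ← mul_assoc y, commutatorElement_eq_one_iff_mul_comm.1 (hcom y hy x hx),
          mul_assoc, mul_assoc], S.ι_mul _ (hsq x) _ (hsq y)]
    have h0 : ∀ x ∈ H, d x = 0 → σ x = 0 := fun x hx h => by
      show S.ι (x * x) = 0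
      rw [S.sqC _ (hker x hx h), S.ι_one]
    have hp : ∀ j : ℕ, σ ((S.ρ ^ j) z) = S.lam ^ j * σ z := fun j => by
      show S.ι (_ * _) = _
      rw [← map_mul, S.ι_ρ_pow (hsq z)]
    refine ⟨σ z, fun x hx => ?_⟩
    by_cases hx0 : d x = 0
    · rw [h0 x hx hx0, hx0, mul_zero]
    obtain ⟨j, hj⟩ := S.gen (d x) hx0
    have hzj := S.apply_pow_mem hd.inv hz j
    have hm := H.mul_mem (H.inv_mem hzj) hx
    have h1 : d (((S.ρ ^ j) z)⁻¹ * x) = 0 := by
      have := hd.mul _ hzj _ hm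
      rw [mul_inv_cancel_left, Coord.pow S hd hz, hz1, mul_one, ← hj] at this
      exact left_eq_add.1 this
    have := hadd _ hzj _ hm
    rw [mul_inv_cancel_left, h0 _ hm h1, add_zero, hp, ← hj, mul_comm] at this
    exact this
  obtain ⟨e, he⟩ := σ_lin (S.coord_W hC) (fun x hx y hy => S.W_comm hx hy)
    (fun x hx h => (S.ι₁_eq_zero hx).1 h)
  obtain ⟨g, hg⟩ := σ_lin hA₀ hA₀comm (fun x hx h => ha_ker hx h)
  have hS : ∀ x, σ x ^ 2 = e ^ 2 * a x ^ 2 + k * (a x * S.b x) + g ^ 2 * S.b x ^ 2 := by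
    intro x
    obtain ⟨w, hw, y, hy, rfl, hxa, hxb⟩ := hsplit x
    have hσ : σ (w * y) = σ w + σ y + S.β w y := by
      show S.ι (w * y * (w * y)) = S.ι (w * w) + S.ι (y * y) + S.ι ⁅w, y⁆
      have e' : w * y * (w * y) = w * w * (y * y) * ⁅y, w⁆ := by
        rw [show w * y * (w * y) = w * ⁅y, w⁆ * (w * (y * y)) by
          simp [commutatorElement_def, mul_assoc]]
        rw [S.comm_C (hcC y w) w, mul_assoc ⁅y, w⁆, ← S.comm_C (hcC y w), ← mul_assoc w w]
      have e'' : S.ι ⁅y, w⁆ = S.ι ⁅w, y⁆ := by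
        rw [← commutatorElement_inv, S.inv_C (hcC w y)]
      rw [e', S.ι_mul _ (S.C.mul_mem (hsq w) (hsq y)) _ (hcC _ _), S.ι_mul _ (hsq w) _ (hsq y), e'']
    rw [hσ, hxa, hxb, CharTwo.add_sq, CharTwo.add_sq, he w hw, hg y hy, hk w hw y hy]
    ring
  have hbθ : ∀ x, S.b (S.θ x) = 0 := fun x => (S.b_eq_zero hsq).2 (S.θ_mem_W hsq x)
  have haα : ∀ x, a (S.α x) = a x + S.b x := fun x => by
    rw [S.α_eq, ha_mul, ha_W _ (S.θ_mem_W hsq x)]; rfl
  have hbα : ∀ x, S.b (S.α x) = S.b x := fun x => by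
    rw [S.α_eq, S.b_mul hsq, hbθ, add_zero]
  have hke : k = e ^ 2 := by
    obtain ⟨y, hy, hy1⟩ := hA₀.surj 1
    have h1 := hS y
    have h2 := hS (S.α y)
    have hσα : σ (S.α y) = σ y := by
      show S.ι (S.α y * S.α y) = S.ι (y * y)
      rw [← map_mul, S.α_inv (hsq y)]
    rw [hσα, h1, haα, hbα, show a y = 0 from hy, hy1] at h2
    simp only [zero_add, mul_zero, one_pow, mul_one, add_zero, zero_pow two_ne_zero] at h2
    have h3 : e ^ 2 + k = 0 := by linear_combination -h2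
    exact (CharTwo.add_eq_zero.1 h3).symm
  have hk0 : k ≠ 0 := by
    intro h
    obtain ⟨p, q, hpq⟩ := hnc
    refine hpq (commutatorElement_eq_one_iff_mul_comm.1 ?_)
    have hWA : ∀ w ∈ S.W, ∀ y ∈ A₀, ⁅w, y⁆ = 1 := fun w hw y hy => by
      refine (S.ι_eq_zero (hcC w y)).1 ((pow_eq_zero_iff two_ne_zero).1 ?_)
      have := hk w hw y hy
      rwa [h, zero_mul] at this
    obtain ⟨w, hw, y, hy, rfl, -, -⟩ := hsplit p
    obtain ⟨w', hw', y', hy', rfl, -, -⟩ := hsplit q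
    rw [comm_mul_left (S.central (hcC _ _)), comm_mul_right (S.central (hcC _ _)),
      comm_mul_right (S.central (hcC _ _)), S.W_comm hw hw', hWA w hw y' hy', ← commutatorElement_inv,
      hWA w' hw' y hy, hA₀comm y hy y' hy']
    simp
  refine ⟨g ^ 2 / k, ⟨{
    κ := fun x => (a x, S.b x)
    ι := fun z => k⁻¹ * S.ι z ^ 2
    κ_mul := fun x y => Prod.ext (ha_mul x y) (S.b_mul hsq x y)
    κ_surj := ?_
    central := ?_
    ι_mul := ?_
    ι_inj := ?_
    ι_surj := ?_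
    sq := ?_
    ι_sq := ?_ }⟩⟩
  · rintro ⟨u, v⟩
    obtain ⟨y, hy, hyb⟩ := hA₀.surj v
    obtain ⟨w, hw, hwa⟩ := S.ι₁_surj hC u
    refine ⟨w * y, Prod.ext ?_ ?_⟩
    · show a (w * y) = u
      rw [ha_mul, show a y = 0 from hy, ha_W w hw, hwa, add_zero]
    · show S.b (w * y) = v
      rw [S.b_mul hsq, (S.b_eq_zero hsq).2 hw, hyb, zero_add]
  · intro z hz y
    exact S.comm_C (ha_ker (congrArg Prod.fst hz) (congrArg Prod.snd hz)) y
  · intro p q hp hq
    rw [S.ι_mul _ (ha_ker (congrArg Prod.fst hp) (congrArg Prod.snd hp)) _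
      (ha_ker (congrArg Prod.fst hq) (congrArg Prod.snd hq)), CharTwo.add_sq, mul_add]
  · intro p q hp hq h
    exact S.ι_inj _ (ha_ker (congrArg Prod.fst hp) (congrArg Prod.snd hp)) _
      (ha_ker (congrArg Prod.fst hq) (congrArg Prod.snd hq))
      (CharTwo.sq_inj.1 (mul_left_cancel₀ (inv_ne_zero hk0) h))
  · intro u
    obtain ⟨r, hr⟩ := (Finite.injective_iff_surjective.1
      (fun x y (h : x ^ 2 = y ^ 2) => CharTwo.sq_inj.1 h) : Function.Surjective (fun x : F => x ^ 2)) (k * u)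
    obtain ⟨c, hc, hcr⟩ := S.ι_surj r
    refine ⟨c, Prod.ext ?_ ?_, ?_⟩
    · show a c = 0
      rw [ha_W c (S.C_le_W hc), S.ι₁_eq_zero (S.C_le_W hc)]; exact hc
    · show S.b c = 0
      exact (S.b_eq_zero hsq).2 (S.C_le_W hc)
    · show k⁻¹ * S.ι c ^ 2 = u
      rw [hcr, show r ^ 2 = k * u from hr, inv_mul_cancel_left₀ hk0]
  · intro x
    refine Prod.ext ?_ ?_
    · show a (x * x) = 0
      rw [ha_mul, CharTwo.add_self_eq_zero]
    · show S.b (x * x) = 0
      rw [S.b_mul hsq, CharTwo.add_self_eq_zero]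
  · intro x
    show k⁻¹ * σ x ^ 2 = a x ^ 2 + a x * S.b x + g ^ 2 / k * S.b x ^ 2
    rw [hS x, ← hke]
    field_simp

end Setup

end Cfsg.Agent.Lib.Singer76
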