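import Cfsg.Agent.Lib.Singer76.Setup

/-!
Squares lie in `C` when `Q` is not commutative.
-/

set_option autoImplicit false
set_option linter.style.haveILetI false
set_option linter.unusedSectionVars false

namespace Cfsg.Agent.Lib.Singer76

open scoped commutatorElement

theorem comm_mul_left {G : Type*} [Group G] {x y z : G} (h : ⁅y, z⁆ ∈ Subgroup.center G) :
    ⁅x * y, z⁆ = ⁅x, z⁆ * ⁅y, z⁆ := by
  have h1 : ⁅x * y, z⁆ = x * ⁅y, z⁆ * x⁻¹ * ⁅x, z⁆ := by simp [commutatorElement_def, mul_assoc]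
  rw [h1, Subgroup.mem_center_iff.1 h x, mul_inv_cancel_right, ← Subgroup.mem_center_iff.1 h]

theorem comm_mul_right {G : Type*} [Group G] {x y z : G} (h : ⁅x, z⁆ ∈ Subgroup.center G) :
    ⁅x, y * z⁆ = ⁅x, y⁆ * ⁅x, z⁆ := by
  have h1 : ⁅x, y * z⁆ = ⁅x, y⁆ * (y * ⁅x, z⁆ * y⁻¹) := by simp [commutatorElement_def, mul_assoc]
  rw [h1, Subgroup.mem_center_iff.1 h y, mul_inv_cancel_right]

theorem comm_of_central_left {G : Type*} [Group G] {c : G} (h : c ∈ Subgroup.center G) (x : G) :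
    ⁅c, x⁆ = 1 := commutatorElement_eq_one_iff_mul_comm.2 (Subgroup.mem_center_iff.1 h x).symm

theorem comm_of_central_right {G : Type*} [Group G] {c : G} (h : c ∈ Subgroup.center G) (x : G) :
    ⁅x, c⁆ = 1 := commutatorElement_eq_one_iff_mul_comm.2 (Subgroup.mem_center_iff.1 h x)

variable {Q : Type*} [Group Q] [Finite Q] {F : Type*} [Field F] [Finite F] [CharP F 2] (S : Setup Q F)

namespace Setup

/-- A `ρ`-equivariant coordinate on a subgroup. -/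
structure Coord (H : Subgroup Q) (d : Q → F) : Prop where
  mul : ∀ x ∈ H, ∀ y ∈ H, d (x * y) = d x + d y
  surj : ∀ u, ∃ x ∈ H, d x = u
  inv : ∀ x ∈ H, S.ρ x ∈ H
  equi : ∀ x ∈ H, d (S.ρ x) = S.lam * d x

theorem Coord.pow {H : Subgroup Q} {d : Q → F} (c : S.Coord H d) {x : Q} (hx : x ∈ H) (k : ℕ) :
    d ((S.ρ ^ k) x) = S.lam ^ k * d x := by
  induction k with
  | zero => simp
  | succ k ih =>
    rw [pow_succ', MulAut.mul_apply, c.equi _ (S.apply_pow_mem c.inv hx k), ih, pow_succ']; ring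

/-- A biadditive equivariant map on two coordinates has square a multiple of the product. -/
theorem pairing {H₁ H₂ : Subgroup Q} {d₁ d₂ : Q → F} (c₁ : S.Coord H₁ d₁) (c₂ : S.Coord H₂ d₂)
    (β : Q → Q → F)
    (hl : ∀ x ∈ H₁, ∀ x' ∈ H₁, ∀ y ∈ H₂, β (x * x') y = β x y + β x' y)
    (hr : ∀ x ∈ H₁, ∀ y ∈ H₂, ∀ y' ∈ H₂, β x (y * y') = β x y + β x y')
    (hkl : ∀ x ∈ H₁, d₁ x = 0 → ∀ y ∈ H₂, β x y = 0)
    (hkr : ∀ x ∈ H₁, ∀ y ∈ H₂, d₂ y = 0 → β x y = 0)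
    (heq : ∀ x ∈ H₁, ∀ y ∈ H₂, β (S.ρ x) (S.ρ y) = S.lam * β x y) :
    ∃ k, ∀ x ∈ H₁, ∀ y ∈ H₂, β x y ^ 2 = k * (d₁ x * d₂ y) := by
  choose X hX hXd using c₁.surj
  choose Y hY hYd using c₂.surj
  have key : ∀ x ∈ H₁, ∀ y ∈ H₂, β x y = β (X (d₁ x)) (Y (d₂ y)) := by
    intro x hx y hy
    have hx' := H₁.mul_mem (H₁.inv_mem (hX (d₁ x))) hx
    have hy' := H₂.mul_mem (H₂.inv_mem (hY (d₂ y))) hy
    have h1 : d₁ ((X (d₁ x))⁻¹ * x) = 0 := by
      have := c₁.mul _ (hX (d₁ x)) _ hx'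
      rw [mul_inv_cancel_left, hXd] at this
      exact left_eq_add.1 this
    have h2 : d₂ ((Y (d₂ y))⁻¹ * y) = 0 := by
      have := c₂.mul _ (hY (d₂ y)) _ hy'
      rw [mul_inv_cancel_left, hYd] at this
      exact left_eq_add.1 this
    calc β x y = β (X (d₁ x) * ((X (d₁ x))⁻¹ * x)) y := by rw [mul_inv_cancel_left]
      _ = β (X (d₁ x)) (Y (d₂ y) * ((Y (d₂ y))⁻¹ * y)) := by
          rw [hl _ (hX _) _ hx' _ hy, hkl _ hx' h1 _ hy, add_zero, mul_inv_cancel_left]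
      _ = _ := by rw [hr _ (hX _) _ (hY _) _ hy', hkr _ (hX _) _ hy' h2, add_zero]
  have hpow : ∀ (k : ℕ), ∀ x ∈ H₁, ∀ y ∈ H₂, β ((S.ρ ^ k) x) ((S.ρ ^ k) y) = S.lam ^ k * β x y := by
    intro k x hx y hy
    induction k with
    | zero => simp
    | succ k ih =>
      rw [pow_succ', MulAut.mul_apply, MulAut.mul_apply,
        heq _ (S.apply_pow_mem c₁.inv hx k) _ (S.apply_pow_mem c₂.inv hy k), ih, pow_succ']
      ring
  obtain ⟨k, hk⟩ := Monomial.sq_monomial (fun a b => β (X a) (Y b))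
    (fun a a' b => by
      have := key _ (H₁.mul_mem (hX a) (hX a')) _ (hY b)
      rw [c₁.mul _ (hX a) _ (hX a'), hXd, hXd, hYd] at this
      rw [← hl _ (hX a) _ (hX a') _ (hY b), this])
    (fun a b b' => by
      have := key _ (hX a) _ (H₂.mul_mem (hY b) (hY b'))
      rw [c₂.mul _ (hY b) _ (hY b'), hXd, hYd, hYd] at this
      rw [← hr _ (hX a) _ (hY b) _ (hY b'), this])
    (fun μ hμ a b => by
      obtain ⟨k, rfl⟩ := S.gen μ hμ
      have := key _ (S.apply_pow_mem c₁.inv (hX a) k) _ (S.apply_pow_mem c₂.inv (hY b) k)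
      rw [c₁.pow S (hX a), c₂.pow S (hY b), hXd, hYd] at this
      rw [← this, hpow _ _ (hX a) _ (hY b)])
  exact ⟨k, fun x hx y hy => by rw [key x hx y hy]; exact hk _ _⟩

theorem alternating {H : Subgroup Q} {d : Q → F} (c : S.Coord H d) (β : Q → Q → F)
    (hl : ∀ x ∈ H, ∀ x' ∈ H, ∀ y ∈ H, β (x * x') y = β x y + β x' y)
    (hr : ∀ x ∈ H, ∀ y ∈ H, ∀ y' ∈ H, β x (y * y') = β x y + β x y')
    (hkl : ∀ x ∈ H, d x = 0 → ∀ y ∈ H, β x y = 0)
    (hkr : ∀ x ∈ H, ∀ y ∈ H, d y = 0 → β x y = 0)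
    (heq : ∀ x ∈ H, ∀ y ∈ H, β (S.ρ x) (S.ρ y) = S.lam * β x y) (halt : ∀ x ∈ H, β x x = 0)
    {x y : Q} (hx : x ∈ H) (hy : y ∈ H) : β x y = 0 := by
  obtain ⟨k, hk⟩ := S.pairing c c β hl hr hkl hkr heq
  obtain ⟨z, hz, hz1⟩ := c.surj 1
  have h := hk z hz z hz
  rw [halt z hz, zero_pow two_ne_zero, hz1, mul_one, mul_one] at h
  have h2 := hk x hx y hy
  rw [← h, zero_mul] at h2
  exact (pow_eq_zero_iff two_ne_zero).1 h2

/-- The map `(x, y) ↦ ι [x, y]`. -/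
def β (x y : Q) : F := S.ι ⁅x, y⁆

theorem comm_mem_of_sq {H : Subgroup Q} (h : ∀ x ∈ H, x * x ∈ S.C) {x y : Q} (hx : x ∈ H)
    (hy : y ∈ H) : ⁅x, y⁆ ∈ S.C := by
  have h1 := S.C.inv_mem (h x hx)
  have e : ⁅x, y⁆ = (x * y) * (x * y) * (y⁻¹ * (x * x)⁻¹ * y⁻¹) := by
    simp [commutatorElement_def, mul_assoc]
  rw [e, S.comm_C h1 y⁻¹, mul_assoc ((x * x)⁻¹)]
  exact S.C.mul_mem (h _ (H.mul_mem hx hy))
    (S.C.mul_mem h1 (by rw [← mul_inv_rev]; exact S.C.inv_mem (h y hy)))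

/-- If the commutators of `H` lie in `C`, the alternating argument makes `H` commutative. -/
theorem comm_of_alternating {H : Subgroup Q} {d : Q → F} (c : S.Coord H d)
    (hC : ∀ x ∈ H, ∀ y ∈ H, ⁅x, y⁆ ∈ S.C)
    (hk : ∀ x ∈ H, d x = 0 → ∀ y ∈ H, ⁅x, y⁆ = 1) {x y : Q} (hx : x ∈ H) (hy : y ∈ H) :
    ⁅x, y⁆ = 1 := by
  refine (S.ι_eq_zero (hC x hx y hy)).1 (S.alternating c S.β ?_ ?_ ?_ ?_ ?_ ?_ hx hy)
  · intro a ha b hb z hz
    rw [β, comm_mul_left (S.central (hC b hb z hz)), S.ι_mul _ (hC a ha z hz) _ (hC b hb z hz)]; rfl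
  · intro a ha b hb z hz
    rw [β, comm_mul_right (S.central (hC a ha z hz)), S.ι_mul _ (hC a ha b hb) _ (hC a ha z hz)]; rfl
  · intro a ha h0 b hb
    rw [β, hk a ha h0 b hb, S.ι_one]
  · intro a ha b hb h0
    rw [β, ← commutatorElement_inv, hk b hb h0 a ha, inv_one, S.ι_one]
  · intro a ha b hb
    rw [β, ← map_commutatorElement, S.ι_ρ _ (hC a ha b hb)]; rfl
  · intro a ha
    rw [β, commutatorElement_self, S.ι_one]

theorem coord_W (h : S.C ≠ ⊤) : S.Coord S.W S.ι₁ :=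
  ⟨fun _ hx _ hy => S.ι₁_mul hx hy, S.ι₁_surj h, fun _ => S.ρ_mem_W, fun _ => S.ι₁_ρ⟩

theorem W_comm {x y : Q} (hx : x ∈ S.W) (hy : y ∈ S.W) : ⁅x, y⁆ = 1 := by
  by_cases h : S.C = ⊤
  · exact comm_of_central_left (S.central (h ▸ Subgroup.mem_top x)) y
  · exact S.comm_of_alternating (S.coord_W h) (fun a ha b hb => S.comm_mem_of_sq (fun _ => S.sq_mem_C) ha hb)
      (fun a ha h0 b _ => comm_of_central_left (S.central ((S.ι₁_eq_zero ha).1 h0)) b) hx hy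

/-- The coordinate on `Q / W` when squares lie in `C`. -/
def b (x : Q) : F := S.ι₁ (S.θ x)

theorem θ_mem_W (hsq : ∀ x, x * x ∈ S.C) (x : Q) : S.θ x ∈ S.W := by
  rw [mem_W]
  have h : S.θ (S.θ x) = ((S.θ x) * (S.θ x))⁻¹ := by
    rw [θ, S.θ_α, mul_inv_rev]
  rw [h]; exact S.C.inv_mem (hsq _)

theorem b_mul (hsq : ∀ x, x * x ∈ S.C) (x y : Q) : S.b (x * y) = S.b x + S.b y := by
  have hc : ⁅y⁻¹, S.θ x⁆ ∈ S.C :=
    S.comm_mem_of_sq (H := ⊤) (fun x _ => hsq x) (Subgroup.mem_top _) (Subgroup.mem_top _)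
  have e : S.θ (x * y) = ⁅y⁻¹, S.θ x⁆ * (S.θ x * S.θ y) := by
    rw [S.θ_mul]; simp [commutatorElement_def, mul_assoc]
  rw [b, e, S.ι₁_mul (S.C_le_W hc) (S.W.mul_mem (S.θ_mem_W hsq x) (S.θ_mem_W hsq y)),
    (S.ι₁_eq_zero (S.C_le_W hc)).2 hc, zero_add,
    S.ι₁_mul (S.θ_mem_W hsq x) (S.θ_mem_W hsq y)]
  rfl

theorem b_eq_zero (hsq : ∀ x, x * x ∈ S.C) {x : Q} : S.b x = 0 ↔ x ∈ S.W := by
  rw [b, S.ι₁_eq_zero (S.θ_mem_W hsq x)]; rfl

theorem b_ρ (hsq : ∀ x, x * x ∈ S.C) (x : Q) : S.b (S.ρ x) = S.lam * S.b x := by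
  rw [b, S.θ_ρ, S.ι₁_ρ (S.θ_mem_W hsq x)]; rfl

theorem coord_b (hsq : ∀ x, x * x ∈ S.C) (h : S.W ≠ ⊤) : S.Coord ⊤ S.b := by
  refine ⟨fun x _ y _ => S.b_mul hsq x y, fun u => ?_, fun x _ => Subgroup.mem_top _,
    fun x _ => S.b_ρ hsq x⟩
  obtain ⟨x, hx⟩ : ∃ x, x ∉ S.W := by
    by_contra! hc
    exact h (eq_top_iff.2 fun x _ => hc x)
  by_cases hu : u = 0
  · exact ⟨1, Subgroup.mem_top _, by rw [hu, S.b_eq_zero hsq]; exact S.W.one_mem⟩
  have hx0 : S.b x ≠ 0 := fun h => hx ((S.b_eq_zero hsq).1 h)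
  obtain ⟨k, hk⟩ := S.gen (u / S.b x) (div_ne_zero hu hx0)
  refine ⟨(S.ρ ^ k) x, Subgroup.mem_top _, ?_⟩
  have hp : ∀ j : ℕ, S.b ((S.ρ ^ j) x) = S.lam ^ j * S.b x := fun j => by
    induction j with
    | zero => simp
    | succ j ih => rw [pow_succ', MulAut.mul_apply, S.b_ρ hsq, ih, pow_succ']; ring
  rw [hp, ← hk, div_mul_cancel₀ _ hx0]

theorem W_ne_top_of_noncomm (hnc : ∃ x y : Q, x * y ≠ y * x) : S.W ≠ ⊤ := fun h => by
  obtain ⟨x, y, hxy⟩ := hnc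
  exact hxy (commutatorElement_eq_one_iff_mul_comm.1
    (S.W_comm (h ▸ Subgroup.mem_top x) (h ▸ Subgroup.mem_top y)))

theorem C_ne_top_of_noncomm (hnc : ∃ x y : Q, x * y ≠ y * x) : S.C ≠ ⊤ := fun h => by
  obtain ⟨x, y, hxy⟩ := hnc
  exact hxy (S.comm_C (h ▸ Subgroup.mem_top y) x)

section Quot

variable (h : S.C ≠ ⊤)

theorem mk_mem_quot {x : Q} :
    haveI := S.C_normal
    ((x : Q ⧸ S.C) ∈ (S.quot h).C) ↔ x ∈ S.W := by
  haveI := S.C_normal
  constructor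
  · rintro ⟨y, hy, hyx⟩
    have hc : y⁻¹ * x ∈ S.C := QuotientGroup.eq.1 hyx
    have := S.W.mul_mem hy (S.C_le_W hc)
    rwa [mul_inv_cancel_left] at this
  · exact fun hx => ⟨x, hx, rfl⟩

theorem quot_α (x : Q) :
    haveI := S.C_normal
    (S.quot h).α (x : Q ⧸ S.C) = ((S.α x : Q) : Q ⧸ S.C) := by
  haveI := S.C_normal
  rfl

theorem quot_ρ (x : Q) :
    haveI := S.C_normal
    (S.quot h).ρ (x : Q ⧸ S.C) = ((S.ρ x : Q) : Q ⧸ S.C) := by
  haveI := S.C_normal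
  rfl

theorem quot_θ (x : Q) :
    haveI := S.C_normal
    (S.quot h).θ (x : Q ⧸ S.C) = ((S.θ x : Q) : Q ⧸ S.C) := by
  haveI := S.C_normal
  rfl

theorem quot_ι {x : Q} (hx : x ∈ S.W) :
    haveI := S.C_normal
    (S.quot h).ι (x : Q ⧸ S.C) = S.ι₁ x := by
  haveI := S.C_normal
  obtain ⟨⟨c, hc⟩, e⟩ := QuotientGroup.mk_out_eq_mul S.C x
  show S.ι₁ (Quotient.out ((x : Q ⧸ S.C))) = _
  rw [e, S.ι₁_mul hx (S.C_le_W hc), (S.ι₁_eq_zero (S.C_le_W hc)).2 hc, add_zero]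

end Quot

/-- The case where `Q / C` is commutative. -/
theorem sq_mem_of_comm_quot (hnc : ∃ x y : Q, x * y ≠ y * x) (hq : ∀ x y : Q, ⁅x, y⁆ ∈ S.C)
    (x : Q) : x * x ∈ S.C := by
  classical
  have hC := S.C_ne_top_of_noncomm hnc
  haveI := S.C_normal
  let T := S.quot hC
  let U := Q ⧸ S.C
  letI : CommGroup U :=
    { (inferInstance : Group U) with
      mul_comm := fun a b => by
        obtain ⟨a, rfl⟩ := QuotientGroup.mk_surjective a
        obtain ⟨b, rfl⟩ := QuotientGroup.mk_surjective b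
        rw [← QuotientGroup.mk_mul, ← QuotientGroup.mk_mul, QuotientGroup.eq]
        have := hq b⁻¹ a⁻¹
        simpa [commutatorElement_def, mul_assoc] using this }
  by_contra hx
  have hu0 : (x : U) ^ 2 ≠ 1 := by
    rw [sq, ← QuotientGroup.mk_mul]
    exact fun h => hx ((QuotientGroup.eq_one_iff _).1 h)
  let N : U →* U := MonoidHom.id U * (MulEquiv.toMonoidHom T.α : U →* U)
  have hN : ∀ u, N u = u * T.α u := fun _ => rfl
  let P2 : U →* U := powMonoidHom 2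
  have hρpow : ∀ (H : Subgroup U), (∀ u ∈ H, T.ρ u ∈ H) → ∀ u ∈ H, ∀ k : ℕ, (T.ρ ^ k) u ∈ H :=
    fun H hH u hu k => T.apply_pow_mem hH hu k
  have hNρ : ∀ u, N (T.ρ u) = T.ρ (N u) := fun u => by rw [hN, hN, map_mul, T.comm]
  have hfix : ∀ u : U, u ^ 2 = 1 → N u = 1 → u ∈ T.C := by
    intro u h2 hn
    rw [T.mem]
    rw [hN] at hn
    rw [eq_inv_of_mul_eq_one_right hn]
    exact inv_eq_of_mul_eq_one_left (by rw [← sq, h2])
  have hW2 : ∀ u ∈ T.C, u ^ 2 = 1 := fun u hu => by rw [sq]; exact T.sqC u hu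
  -- the two facts
  have main : (T.C ≤ P2.range) ∧ ((∀ t : U, t ^ 2 = 1 → t ∈ T.C) ∨
      (T.C ≤ (N.ker.map P2))) := by
    by_cases hP : ∃ k : U, N k = 1 ∧ k ^ 2 ≠ 1
    · obtain ⟨k, hk, hk2⟩ := hP
      obtain ⟨j, hj, hj1⟩ := exists_sq_one T.isP hk2
      have hle : T.C ≤ N.ker.map P2 := by
        refine T.C_le (H := N.ker.map P2) ?_ (c := (k ^ 2) ^ 2 ^ j) ?_ ?_ hj
        · rintro _ ⟨w, hw, rfl⟩
          refine ⟨T.ρ w, ?_, by simp [P2]⟩
          show N (T.ρ w) = 1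
          rw [hNρ, show N w = 1 from hw, map_one]
        · refine hfix _ ?_ ?_
          · rw [← pow_mul, ← pow_succ, hj1]
          · rw [map_pow, map_pow, hk, one_pow, one_pow]
        · refine ⟨k ^ 2 ^ j, ?_, ?_⟩
          · show N _ = 1
            rw [map_pow, hk, one_pow]
          · show (k ^ 2 ^ j) ^ 2 = _
            rw [← pow_mul, ← pow_mul, mul_comm]
      exact ⟨hle.trans (Subgroup.map_le_range _ _), Or.inr hle⟩
    · push Not at hP
      have hker : ∀ u, N u = 1 → u ∈ T.C := fun u hu => hfix u (hP u hu) hu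
      have hsq : ∀ u : U, u ^ 2 ∈ T.C := fun u => by
        refine hker _ ?_
        rw [map_pow]
        refine hW2 _ ?_
        rw [T.mem, hN, map_mul, T.α_sq, mul_comm]
      refine ⟨T.C_le (H := P2.range) ?_ (hsq _) ⟨_, rfl⟩ hu0, Or.inl fun t ht => ?_⟩
      · rintro _ ⟨w, rfl⟩
        exact ⟨T.ρ w, by simp [P2]⟩
      · by_contra htC
        have hNC : ∀ u, N u ∈ T.C := fun u => by rw [T.mem, hN, map_mul, T.α_sq, mul_comm]
        have hle : T.C ≤ P2.ker.map N := by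
          refine T.C_le (H := P2.ker.map N) ?_ (hNC t) ⟨t, ht, rfl⟩ fun h => htC (hker t h)
          rintro _ ⟨w, hw, rfl⟩
          exact ⟨T.ρ w, by
            show (T.ρ w) ^ 2 = 1
            rw [← map_pow, show w ^ 2 = 1 from hw, map_one], hNρ w⟩
        obtain ⟨t', ht', he⟩ := hle (hNC (x : U))
        have h1 := hW2 _ (hker (t'⁻¹ * (x : U)) (by rw [map_mul, map_inv, he, inv_mul_cancel]))
        rw [mul_pow, inv_pow, show t' ^ 2 = 1 from ht', inv_one, one_mul] at h1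
        exact hu0 h1
  obtain ⟨hrange, hcase⟩ := main
  have hcZ : ∀ y : Q, y * y ∈ Subgroup.center Q := fun y => by
    refine Subgroup.mem_center_iff.2 fun g => (commutatorElement_eq_one_iff_mul_comm.1 ?_).symm
    rw [comm_mul_left (S.central (hq y g)), S.sqC _ (hq y g)]
  have hWZ : ∀ w ∈ S.W, w ∈ Subgroup.center Q := by
    intro w hw
    obtain ⟨u, hu⟩ := hrange ((S.mk_mem_quot hC).2 hw)
    obtain ⟨k, rfl⟩ := QuotientGroup.mk_surjective u
    have hc : (k * k)⁻¹ * w ∈ S.C := QuotientGroup.eq.1 (by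
      rw [QuotientGroup.mk_mul, ← sq]; exact hu)
    have := Subgroup.mul_mem _ (hcZ k) (S.central hc)
    rwa [mul_inv_cancel_left] at this
  have hinv : ∀ t : U, t ^ 2 = 1 → t ∈ T.C := by
    rcases hcase with h | hle
    · exact h
    intro u hu
    obtain ⟨t, rfl⟩ := QuotientGroup.mk_surjective u
    have ht2 : t * t ∈ S.C := (QuotientGroup.eq_one_iff _).1 (by rw [QuotientGroup.mk_mul, ← sq]; exact hu)
    have hWinv : ∀ w ∈ S.W, S.α w = w⁻¹ := by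
      intro w hw
      obtain ⟨v, hv, hvw⟩ := hle ((S.mk_mem_quot hC).2 hw)
      obtain ⟨k, rfl⟩ := QuotientGroup.mk_surjective v
      have hk : k * S.α k ∈ S.C := (QuotientGroup.eq_one_iff _).1 hv
      have hc : (k * k)⁻¹ * w ∈ S.C := QuotientGroup.eq.1 (by
        rw [QuotientGroup.mk_mul, ← sq]; exact hvw)
      have hk' : S.α k = k⁻¹ * (k * S.α k) := by rw [inv_mul_cancel_left]
      set c := (k * k)⁻¹ * w with hcdef
      have hw' : w = k * k * c := by rw [hcdef, mul_inv_cancel_left]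
      rw [hw', map_mul, map_mul, hk', S.α_inv hc, mul_inv_rev, S.inv_C hc,
        ← S.comm_C hc, mul_assoc k⁻¹, ← mul_assoc (k * S.α k), ← S.comm_C hk k⁻¹,
        mul_assoc k⁻¹ (k * S.α k), S.sqC _ hk, mul_one, mul_inv_rev]
    have hθ : S.θ t ∈ S.W := by
      rw [← S.mk_mem_quot hC, ← S.quot_θ hC]
      show T.θ (t : U) ∈ T.C
      have e : T.θ (t : U) = (t : U) * T.α (t : U) := by
        show (t : U)⁻¹ * _ = _
        rw [inv_eq_of_mul_eq_one_left (by rw [← sq]; exact hu)]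
      rw [T.mem, e, map_mul, T.α_sq, mul_comm]
    refine (S.mk_mem_quot hC).2 ((S.mem_W).2 ((S.mem _).2 ?_))
    have hcen := Subgroup.mem_center_iff.1 (hWZ _ hθ)
    have h2 : S.θ t * S.θ t = 1 := by
      have h3 := S.α_inv ht2
      rw [map_mul, S.α_eq t, mul_assoc t (S.θ t), ← hcen, mul_assoc (t : Q) (S.θ t), ← mul_assoc t t] at h3
      exact mul_eq_left.1 h3
    rw [hWinv _ hθ, inv_eq_of_mul_eq_one_left h2]
  -- the largest exponent
  have hex : ∃ e : ℕ, ∀ u : U, u ^ 2 ^ (e + 1) = 1 := by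
    haveI : Fact (Nat.Prime 2) := ⟨Nat.prime_two⟩
    obtain ⟨m, hm⟩ := IsPGroup.iff_card.1 T.isP
    refine ⟨m, fun u => ?_⟩
    rw [pow_succ, pow_mul, ← hm, pow_card_eq_one', one_pow]
  set E := Nat.find hex with hE
  have hEspec : ∀ u : U, u ^ 2 ^ (E + 1) = 1 := Nat.find_spec hex
  have hE1 : 1 ≤ E := by
    by_contra h
    refine hu0 ?_
    have := hEspec (x : U)
    rwa [show E + 1 = 1 by omega, pow_one] at this
  let PE : U →* U := powMonoidHom (2 ^ E)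
  have hPE : ∀ u, PE u ∈ T.C := fun u => hinv _ (by
    show (u ^ 2 ^ E) ^ 2 = 1
    rw [← pow_mul, ← pow_succ, hEspec])
  have hPEne : ∃ u, PE u ≠ 1 := by
    by_contra! hc
    have := Nat.find_min hex (show E - 1 < E by omega)
    exact this fun u => by
      rw [show E - 1 + 1 = E by omega]; exact hc u
  have hPErange : T.C ≤ PE.range := by
    obtain ⟨u, hu⟩ := hPEne
    refine T.C_le (H := PE.range) ?_ (hPE u) ⟨u, rfl⟩ hu
    rintro _ ⟨w, rfl⟩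
    exact ⟨T.ρ w, by simp [PE]⟩
  let Zb : Subgroup U := (Subgroup.center Q).map (QuotientGroup.mk' S.C)
  have hker : ∀ j ≤ E, ∀ u : U, u ^ 2 ^ j = 1 → u ∈ Zb := by
    intro j
    induction j with
    | zero => intro _ u hu; rw [pow_zero, pow_one] at hu; rw [hu]; exact Zb.one_mem
    | succ j ih =>
      intro hj u hu
      have hw : u ^ 2 ^ j ∈ T.C := hinv _ (by rw [← pow_mul, ← pow_succ, hu])
      obtain ⟨z, hz⟩ := hPErange hw
      have hz' : z ^ 2 ^ (E - j) ∈ Zb := by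
        obtain ⟨k, rfl⟩ := QuotientGroup.mk_surjective z
        obtain ⟨m, hm⟩ : ∃ m, E - j = m + 1 := ⟨E - j - 1, by omega⟩
        rw [hm, pow_succ, pow_mul, ← QuotientGroup.mk_pow, sq, ← QuotientGroup.mk_mul]
        exact ⟨_, hcZ _, rfl⟩
      have := ih (by omega) ((z ^ 2 ^ (E - j))⁻¹ * u) (by
        rw [mul_pow, inv_pow, ← pow_mul, ← pow_add, show E - j + j = E by omega]
        rw [show z ^ 2 ^ E = u ^ 2 ^ j from hz, inv_mul_cancel])
      have := Zb.mul_mem hz' this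
      rwa [mul_inv_cancel_left] at this
  let d : Q → F := fun y => T.ι (PE (y : U))
  have hd : S.Coord ⊤ d := by
    refine ⟨fun a _ b _ => ?_, fun v => ?_, fun _ _ => Subgroup.mem_top _, fun a _ => ?_⟩
    · show T.ι (PE ((a * b : Q) : U)) = _
      rw [QuotientGroup.mk_mul, map_mul, T.ι_mul _ (hPE _) _ (hPE _)]
    · obtain ⟨c, hc, rfl⟩ := T.ι_surj v
      obtain ⟨u, rfl⟩ := hPErange hc
      obtain ⟨a, rfl⟩ := QuotientGroup.mk_surjective u
      exact ⟨a, Subgroup.mem_top _, rfl⟩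
    · show T.ι (PE ((S.ρ a : Q) : U)) = _
      rw [← S.quot_ρ hC, show PE (T.ρ (a : U)) = T.ρ (PE (a : U)) from (map_pow T.ρ _ _).symm,
        T.ι_ρ _ (hPE _)]
      rfl
  obtain ⟨a, b, hab⟩ := hnc
  refine hab (commutatorElement_eq_one_iff_mul_comm.1
    (S.comm_of_alternating hd (fun a _ b _ => hq a b) (fun a _ h0 b _ => ?_)
      (Subgroup.mem_top a) (Subgroup.mem_top b)))
  obtain ⟨z, hz, hza⟩ := hker E le_rfl (a : U) ((T.ι_eq_zero (hPE _)).1 h0)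
  have hc : z⁻¹ * a ∈ S.C := QuotientGroup.eq.1 hza
  refine comm_of_central_left ?_ b
  have := Subgroup.mul_mem _ hz (S.central hc)
  rwa [mul_inv_cancel_left] at this

/-- The quotient cannot be of the nonabelian type. -/
theorem false_of_noncomm_quot (hν : ∃ ν : F, ν ≠ 0 ∧ ν ≠ 1) (hq : ∃ x y : Q, ⁅x, y⁆ ∉ S.C)
    (hsqW : ∀ x : Q, x * x ∈ S.W) : False := by
  obtain ⟨x₁, y₁, hxy₁⟩ := hq
  have hnc : ∃ x y : Q, x * y ≠ y * x := ⟨x₁, y₁, fun h => hxy₁ (by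
    rw [commutatorElement_eq_one_iff_mul_comm.2 h]; exact S.C.one_mem)⟩
  have hC := S.C_ne_top_of_noncomm hnc
  haveI := S.C_normal
  let T := S.quot hC
  have hTnc : ∃ u v : Q ⧸ S.C, u * v ≠ v * u := ⟨x₁, y₁, fun h => hxy₁ (by
    rw [← QuotientGroup.eq_one_iff]
    exact (map_commutatorElement (QuotientGroup.mk' S.C) x₁ y₁).trans
      (commutatorElement_eq_one_iff_mul_comm.2 h))⟩
  have hTsq : ∀ u, u * u ∈ T.C := fun u => by
    obtain ⟨x, rfl⟩ := QuotientGroup.mk_surjective u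
    rw [← QuotientGroup.mk_mul]
    exact (S.mk_mem_quot hC).2 (hsqW x)
  have hTC := T.C_ne_top_of_noncomm hTnc
  have hTW := T.W_ne_top_of_noncomm hTnc
  let W2 : Subgroup Q := T.W.comap (QuotientGroup.mk' S.C)
  let d : Q → F := fun x => T.b (x : Q ⧸ S.C)
  let d2 : Q → F := fun x => T.ι₁ (x : Q ⧸ S.C)
  have hd : S.Coord ⊤ d := by
    refine ⟨fun a _ b _ => ?_, fun v => ?_, fun _ _ => Subgroup.mem_top _, fun a _ => ?_⟩
    · show T.b ((a * b : Q) : Q ⧸ S.C) = _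
      rw [QuotientGroup.mk_mul, T.b_mul hTsq]
    · obtain ⟨u, -, rfl⟩ := (T.coord_b hTsq hTW).surj v
      obtain ⟨a, rfl⟩ := QuotientGroup.mk_surjective u
      exact ⟨a, Subgroup.mem_top _, rfl⟩
    · show T.b ((S.ρ a : Q) : Q ⧸ S.C) = _
      rw [← S.quot_ρ hC, T.b_ρ hTsq]; rfl
  have hW2W : ∀ {x : Q}, x ∈ W2 → (T.ι₁ (x : Q ⧸ S.C) = 0 ↔ x ∈ S.W) := fun {x} hx => by
    rw [T.ι₁_eq_zero (show (x : Q ⧸ S.C) ∈ T.W from hx)]; exact S.mk_mem_quot hC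
  have hd2 : S.Coord W2 d2 := by
    refine ⟨fun a ha b hb => ?_, fun v => ?_, fun a ha => ?_, fun a ha => ?_⟩
    · show T.ι₁ ((a * b : Q) : Q ⧸ S.C) = _
      rw [QuotientGroup.mk_mul, T.ι₁_mul (show (a : Q ⧸ S.C) ∈ T.W from ha) (show (b : Q ⧸ S.C) ∈ T.W from hb)]
    · obtain ⟨u, hu, rfl⟩ := T.ι₁_surj hTC v
      obtain ⟨a, rfl⟩ := QuotientGroup.mk_surjective u
      exact ⟨a, hu, rfl⟩
    · show ((S.ρ a : Q) : Q ⧸ S.C) ∈ T.W
      rw [← S.quot_ρ hC]; exact T.ρ_mem_W ha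
    · show T.ι₁ ((S.ρ a : Q) : Q ⧸ S.C) = _
      show T.ι₁ ((S.ρ a : Q) : Q ⧸ S.C) = _
      rw [← S.quot_ρ hC, T.ι₁_ρ (show (a : Q ⧸ S.C) ∈ T.W from ha)]; rfl
  have hθW2 : ∀ x, S.θ x ∈ W2 := fun x => by
    show ((S.θ x : Q) : Q ⧸ S.C) ∈ T.W
    rw [← S.quot_θ hC]; exact T.θ_mem_W hTsq _
  -- `[W, Q] ≤ C`
  have hWQ : ∀ w ∈ S.W, ∀ x, ⁅w, x⁆ ∈ S.C := fun w hw x => by
    rw [← QuotientGroup.eq_one_iff]
    exact (map_commutatorElement (QuotientGroup.mk' S.C) w x).trans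
      (comm_of_central_left (T.central ((S.mk_mem_quot hC).2 hw)) _)
  have hWθ : ∀ w ∈ S.W, ∀ x, ⁅w, S.θ x⁆ = 1 := by
    intro w hw x
    have h := S.α_inv (hWQ w hw x)
    rw [map_commutatorElement, S.α_eq w, S.α_eq x, comm_mul_left (by
      rw [comm_of_central_left (S.central hw)]; exact Subgroup.one_mem _),
      comm_of_central_left (S.central hw), mul_one,
      comm_mul_right (S.central (hWQ w hw _))] at h
    exact mul_eq_left.1 h
  have hWW2 : ∀ w ∈ S.W, ∀ y ∈ W2, ⁅w, y⁆ = 1 := by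
    intro w hw y hy
    obtain ⟨x, -, hx⟩ := hd.surj (d2 y)
    have hm := W2.mul_mem (W2.inv_mem (hθW2 x)) hy
    have h0 : (S.θ x)⁻¹ * y ∈ S.W := by
      refine (hW2W hm).1 ?_
      have h1 := hd2.mul _ (hθW2 x) _ hm
      rw [mul_inv_cancel_left] at h1
      have h2 : d2 (S.θ x) = d x := by
        show T.ι₁ ((S.θ x : Q) : Q ⧸ S.C) = T.ι₁ (T.θ (x : Q ⧸ S.C))
        rw [S.quot_θ hC]
      rw [h2, hx] at h1
      exact left_eq_add.1 h1
    have h1 : ⁅w, S.θ x * ((S.θ x)⁻¹ * y)⁆ = 1 := by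
      rw [comm_mul_right (by rw [S.W_comm hw h0]; exact Subgroup.one_mem _), hWθ w hw,
        S.W_comm hw h0, one_mul]
    rwa [mul_inv_cancel_left] at h1
  obtain ⟨k, hk⟩ := S.pairing (S.coord_W hC) hd S.β
    (fun a ha b hb z _ => by
      rw [β, comm_mul_left (S.central (hWQ b hb z)), S.ι_mul _ (hWQ a ha z) _ (hWQ b hb z)]; rfl)
    (fun a ha b _ z _ => by
      rw [β, comm_mul_right (S.central (hWQ a ha z)), S.ι_mul _ (hWQ a ha b) _ (hWQ a ha z)]; rfl)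
    (fun a ha h0 b _ => by
      rw [β, comm_of_central_left (S.central ((S.ι₁_eq_zero ha).1 h0)), S.ι_one])
    (fun a ha b _ h0 => by rw [β, hWW2 a ha b ((T.b_eq_zero hTsq).1 h0), S.ι_one])
    (fun a ha b _ => by rw [β, ← map_commutatorElement, S.ι_ρ _ (hWQ a ha b)]; rfl)
  -- some square outside `W2` is not in `C`
  obtain ⟨x₀, hx₀, hx₀'⟩ : ∃ x, d x ≠ 0 ∧ x * x ∉ S.C := by
    by_contra! hc
    obtain ⟨ν, hν0, hν1⟩ := hν
    have hout : ∀ u : Q ⧸ S.C, T.b u ≠ 0 → u * u = 1 := fun u hu => by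
      obtain ⟨a, rfl⟩ := QuotientGroup.mk_surjective u
      exact (QuotientGroup.eq_one_iff _).2 (hc a hu)
    obtain ⟨a, -, ha⟩ := (T.coord_b hTsq hTW).surj 1
    obtain ⟨b, -, hb⟩ := (T.coord_b hTsq hTW).surj ν
    have hin : ∀ y, T.b y = 0 → y * y = 1 := by
      intro y hy
      have conj : ∀ u, T.b u ≠ 0 → u * y * u = y⁻¹ := fun u hu => by
        have := hout (u * y) (by rw [T.b_mul hTsq, hy, add_zero]; exact hu)
        exact eq_inv_of_mul_eq_one_left (by rwa [← mul_assoc] at this)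
      have hconj' : ∀ u, T.b u ≠ 0 → u * y * u⁻¹ = y⁻¹ := fun u hu => by
        rw [inv_eq_of_mul_eq_one_left (hout u hu)]; exact conj u hu
      have hab : T.b (a * b) ≠ 0 := by
        rw [T.b_mul hTsq, ha, hb]
        intro h
        exact hν1 ((CharTwo.add_eq_zero.1 h).symm)
      have h1 := hconj' a (by rw [ha]; exact one_ne_zero)
      have h2 := hconj' b (by rw [hb]; exact hν0)
      have h3 := hconj' (a * b) hab
      have h4 : (a * b) * y * (a * b)⁻¹ = y := by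
        calc (a * b) * y * (a * b)⁻¹ = a * (b * y * b⁻¹) * a⁻¹ := by group
          _ = (a * y * a⁻¹)⁻¹ := by rw [h2]; group
          _ = y := by rw [h1, inv_inv]
      rw [h4] at h3
      exact mul_eq_one_iff_eq_inv.2 h3
    obtain ⟨u, v, huv⟩ := hTnc
    have hall : ∀ w : Q ⧸ S.C, w * w = 1 := fun w => by
      by_cases h : T.b w = 0
      · exact hin w h
      · exact hout w h
    refine huv ?_
    calc u * v = (u * v)⁻¹ := (inv_eq_of_mul_eq_one_left (hall _)).symm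
      _ = v * u := by
        rw [mul_inv_rev, inv_eq_of_mul_eq_one_left (hall u), inv_eq_of_mul_eq_one_left (hall v)]
  have hk0 : k = 0 := by
    have h := hk _ (hsqW x₀) x₀ (Subgroup.mem_top _)
    rw [β, show ⁅x₀ * x₀, x₀⁆ = 1 from commutatorElement_eq_one_iff_mul_comm.2 (mul_assoc _ _ _),
      S.ι_one, zero_pow two_ne_zero] at h
    rcases mul_eq_zero.1 h.symm with h | h
    · exact h
    · rcases mul_eq_zero.1 h with h | h
      · exact absurd ((S.ι₁_eq_zero (hsqW x₀)).1 h) hx₀'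
      · exact absurd h hx₀
  have hWZ : ∀ w ∈ S.W, w ∈ Subgroup.center Q := fun w hw => by
    refine Subgroup.mem_center_iff.2 fun g => (commutatorElement_eq_one_iff_mul_comm.1 ?_).symm
    refine (S.ι_eq_zero (hWQ w hw g)).1 ((pow_eq_zero_iff two_ne_zero).1 ?_)
    have := hk w hw g (Subgroup.mem_top _)
    rwa [hk0, zero_mul] at this
  have hcW : ∀ x y : Q, ⁅x, y⁆ ∈ S.W := fun x y => by
    rw [← S.mk_mem_quot hC]
    show QuotientGroup.mk' S.C ⁅x, y⁆ ∈ T.C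
    rw [map_commutatorElement]
    exact T.comm_mem_of_sq (H := ⊤) (fun u _ => hTsq u) (Subgroup.mem_top _) (Subgroup.mem_top _)
  have hl : ∀ x y z : Q, ⁅x * y, z⁆ = ⁅x, z⁆ * ⁅y, z⁆ := fun x y z =>
    comm_mul_left (hWZ _ (hcW y z))
  have hr : ∀ x y z : Q, ⁅x, y * z⁆ = ⁅x, y⁆ * ⁅x, z⁆ := fun x y z =>
    comm_mul_right (hWZ _ (hcW x z))
  have hβ1 : ∀ {H : Subgroup Q} {e : Q → F}, S.Coord H e →
      (∀ a ∈ H, e a = 0 → ∀ b ∈ H, ⁅a, b⁆ ∈ S.C) → ∀ a ∈ H, ∀ b ∈ H, ⁅a, b⁆ ∈ S.C := by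
    intro H e he hz a ha b hb
    refine (S.ι₁_eq_zero (hcW a b)).1 (S.alternating he (fun p q => S.ι₁ ⁅p, q⁆) ?_ ?_ ?_ ?_ ?_ ?_ ha hb)
    · intro p _ p' _ q _
      show S.ι₁ ⁅p * p', q⁆ = _
      rw [hl, S.ι₁_mul (hcW p q) (hcW p' q)]
    · intro p _ q _ q' _
      show S.ι₁ ⁅p, q * q'⁆ = _
      rw [hr, S.ι₁_mul (hcW p q) (hcW p q')]
    · intro p hp h0 q hq
      exact (S.ι₁_eq_zero (hcW p q)).2 (hz p hp h0 q hq)
    · intro p hp q hq h0
      refine (S.ι₁_eq_zero (hcW p q)).2 ?_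
      rw [← commutatorElement_inv]
      exact S.C.inv_mem (hz q hq h0 p hp)
    · intro p _ q _
      show S.ι₁ ⁅S.ρ p, S.ρ q⁆ = _
      rw [← map_commutatorElement, S.ι₁_ρ (hcW p q)]
    · intro p _
      show S.ι₁ ⁅p, p⁆ = 0
      rw [commutatorElement_self, S.ι₁_eq_zero S.W.one_mem]; exact S.C.one_mem
  have hW22C := hβ1 hd2 (fun a ha h0 b _ => by
    rw [comm_of_central_left (hWZ _ ((hW2W ha).1 h0))]; exact S.C.one_mem)
  have hW22 : ∀ a ∈ W2, ∀ b ∈ W2, ⁅a, b⁆ = 1 := fun a ha b hb =>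
    S.comm_of_alternating hd2 hW22C (fun p hp h0 q _ => comm_of_central_left (hWZ _ ((hW2W hp).1 h0)) q)
      ha hb
  have hW2Q : ∀ u ∈ W2, ∀ x, ⁅u, x⁆ ∈ S.C := by
    intro u hu x
    have hθu : S.θ u ∈ S.W := by
      rw [← S.mk_mem_quot hC, ← S.quot_θ hC]
      exact hu
    rw [S.mem, map_commutatorElement, S.α_eq u, S.α_eq x, hl, comm_of_central_left (hWZ _ hθu),
      mul_one, hr, hW22 u hu _ (hθW2 x), mul_one]
  exact hxy₁ (hβ1 hd (fun a _ h0 b _ => hW2Q a ((T.b_eq_zero hTsq).1 h0) b)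
    x₁ (Subgroup.mem_top _) y₁ (Subgroup.mem_top _))

end Setup

universe u v

/-- Squares lie in `C`. -/
theorem sq_mem_C_of_noncomm {F : Type v} [Field F] [Finite F] [CharP F 2]
    (hν : ∃ ν : F, ν ≠ 0 ∧ ν ≠ 1) :
    ∀ (m : ℕ) (Q : Type u) [Group Q] [Finite Q] (S : Setup Q F), Nat.card Q = m →
      (∃ x y : Q, x * y ≠ y * x) → ∀ x : Q, x * x ∈ S.C := by
  intro m
  induction m using Nat.strong_induction_on with
  | _ m ih =>
    intro Q _ _ S hm hnc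
    by_cases hq : ∀ x y : Q, ⁅x, y⁆ ∈ S.C
    · exact S.sq_mem_of_comm_quot hnc hq
    push Not at hq
    exfalso
    obtain ⟨a, b, hab⟩ := hq
    have hC := S.C_ne_top_of_noncomm hnc
    haveI := S.C_normal
    obtain ⟨c, hc, hc1⟩ := S.ι_surj 1
    have hcard : Nat.card (Q ⧸ S.C) < m := by
      rw [← hm, Subgroup.card_eq_card_quotient_mul_card_subgroup S.C]
      refine lt_mul_of_one_lt_right Nat.card_pos (Subgroup.one_lt_card_iff_ne_bot _ |>.2 fun h => ?_)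
      rw [h, Subgroup.mem_bot] at hc
      rw [hc, S.ι_one] at hc1
      exact zero_ne_one hc1
    refine S.false_of_noncomm_quot hν ⟨a, b, hab⟩ fun x => ?_
    have := ih _ hcard (Q ⧸ S.C) (S.quot hC) rfl ⟨(a : Q ⧸ S.C), (b : Q ⧸ S.C), fun h => hab (by
      rw [← QuotientGroup.eq_one_iff]
      exact (map_commutatorElement (QuotientGroup.mk' S.C) a b).trans
        (commutatorElement_eq_one_iff_mul_comm.2 h))⟩ (x : Q ⧸ S.C)
    exact (S.mk_mem_quot hC).1 this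

end Cfsg.Agent.Lib.Singer76
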