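import Cfsg.Agent.Lib.Singer76.Square
import Cfsg.Agent.Lib.AutPSL.Sylow
import Cfsg.Agent.Lib.U3Sylow.Coords

/-!
Sylow 2-subgroups of `PSL₃(2ⁿ)` and `PSU₃(2ⁿ)` as groups with squaring data.
-/

set_option autoImplicit false
set_option linter.style.haveILetI false
set_option linter.unusedSectionVars false

namespace Cfsg.Agent.Lib.Singer76.Models

open Square Matrix Polynomial

variable {K : Type} [Field K] [Fintype K] [CharP K 2]

theorem exists_data_PSL :
    ∃ P : Sylow 2 (Matrix.ProjectiveSpecialLinearGroup (Fin 3) K),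
      Nonempty (SqData (P : Subgroup (Matrix.ProjectiveSpecialLinearGroup (Fin 3) K)) (K × K) K
        (fun v => v.1 * v.2)) := by
  classical
  haveI : Fact (Nat.Prime 2) := ⟨Nat.prime_two⟩
  obtain ⟨P, hP⟩ := AutPSL.exists_sylow_uniBar (n := 3) (F := K) (by norm_num) 2
  refine ⟨P, ?_⟩
  let U := AutPSL.uni 3 K
  have hinj : Function.Injective
      ((QuotientGroup.mk' (Subgroup.center (Matrix.SpecialLinearGroup (Fin 3) K))).comp U.subtype) := by
    rw [← MonoidHom.ker_eq_bot_iff, eq_bot_iff]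
    intro s hs
    exact Subgroup.mem_bot.2 (Subtype.ext (AutPSL.uni_inf_center_eq_one (by norm_num) s.2 hs))
  let e : U ≃* (P : Subgroup (Matrix.ProjectiveSpecialLinearGroup (Fin 3) K)) :=
    (MonoidHom.ofInjective hinj).trans (MulEquiv.subgroupCongr (by
      rw [MonoidHom.range_comp, Subgroup.range_subtype, hP]; rfl))
  let M : U → Matrix (Fin 3) (Fin 3) K := fun s => (s.1 : Matrix (Fin 3) (Fin 3) K)
  have hM : ∀ s : U, AutPSL.IsUni (M s) := fun s => (AutPSL.mem_uni_iff).1 s.2
  have hmul : ∀ s t, M (s * t) = M s * M t := fun s t => Matrix.SpecialLinearGroup.coe_mul _ _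
  have h00 : ∀ s, M s 0 0 = 1 := fun s => (hM s).1 0
  have h11 : ∀ s, M s 1 1 = 1 := fun s => (hM s).1 1
  have h22 : ∀ s, M s 2 2 = 1 := fun s => (hM s).1 2
  have h10 : ∀ s, M s 1 0 = 0 := fun s => (hM s).2 (by decide)
  have h20 : ∀ s, M s 2 0 = 0 := fun s => (hM s).2 (by decide)
  have h21 : ∀ s, M s 2 1 = 0 := fun s => (hM s).2 (by decide)
  have m01 : ∀ s t, M (s * t) 0 1 = M s 0 1 + M t 0 1 := fun s t => by
    rw [hmul, Matrix.mul_apply, Fin.sum_univ_three, h00, h11, h21]; ring
  have m12 : ∀ s t, M (s * t) 1 2 = M s 1 2 + M t 1 2 := fun s t => by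
    rw [hmul, Matrix.mul_apply, Fin.sum_univ_three, h10, h11, h22]; ring
  have m02 : ∀ s t, M (s * t) 0 2 = M s 0 2 + M t 0 2 + M s 0 1 * M t 1 2 := fun s t => by
    rw [hmul, Matrix.mul_apply, Fin.sum_univ_three, h00, h22]; ring
  have ext : ∀ s t, M s 0 1 = M t 0 1 → M s 1 2 = M t 1 2 → M s 0 2 = M t 0 2 → s = t := by
    intro s t a b c
    refine Subtype.ext (Subtype.ext ?_)
    show M s = M t
    ext i j
    fin_cases i <;> fin_cases j <;>
      simp [a, b, c, h00, h11, h22, h10, h20, h21]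
  have mk : ∀ a b c : K, ∃ s : U, M s 0 1 = a ∧ M s 1 2 = b ∧ M s 0 2 = c := by
    intro a b c
    let A : Matrix (Fin 3) (Fin 3) K := !![1, a, c; 0, 1, b; 0, 0, 1]
    have hA : AutPSL.IsUni A := ⟨fun i => by fin_cases i <;> simp [A], fun i j h => by
      fin_cases i <;> fin_cases j <;> simp [A] at h ⊢⟩
    exact ⟨⟨⟨A, AutPSL.det_of_isUni hA⟩, (AutPSL.mem_uni_iff).2 hA⟩, rfl, rfl, rfl⟩
  let D : SqData U (K × K) K (fun v => v.1 * v.2) :=
    { κ := fun s => (M s 0 1, M s 1 2)
      ι := fun s => M s 0 2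
      κ_mul := fun s t => Prod.ext (m01 s t) (m12 s t)
      κ_surj := fun v => by
        obtain ⟨s, h1, h2, -⟩ := mk v.1 v.2 0
        exact ⟨s, Prod.ext h1 h2⟩
      central := fun z hz y => by
        have h1 : M z 0 1 = 0 := congrArg Prod.fst hz
        have h2 : M z 1 2 = 0 := congrArg Prod.snd hz
        refine ext _ _ ?_ ?_ ?_
        · rw [m01, m01]; ring
        · rw [m12, m12]; ring
        · rw [m02, m02, h1, h2]; ring
      ι_mul := fun s t hs _ => by
        show M (s * t) 0 2 = _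
        rw [m02, show M s 0 1 = 0 from congrArg Prod.fst hs]; ring
      ι_inj := fun s t hs ht h => ext _ _
        ((congrArg Prod.fst hs).trans (congrArg Prod.fst ht).symm)
        ((congrArg Prod.snd hs).trans (congrArg Prod.snd ht).symm) h
      ι_surj := fun u => by
        obtain ⟨s, h1, h2, h3⟩ := mk 0 0 u
        exact ⟨s, Prod.ext h1 h2, h3⟩
      sq := fun s => Prod.ext
        (by show M (s * s) 0 1 = 0; rw [m01, CharTwo.add_self_eq_zero])
        (by show M (s * s) 1 2 = 0; rw [m12, CharTwo.add_self_eq_zero])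
      ι_sq := fun s => by
        show M (s * s) 0 2 = _
        rw [m02, CharTwo.add_self_eq_zero, zero_add] }
  exact ⟨{
    κ := fun x => D.κ (e.symm x)
    ι := fun x => D.ι (e.symm x)
    κ_mul := fun x y => by rw [map_mul, D.κ_mul]
    κ_surj := fun v => by obtain ⟨s, hs⟩ := D.κ_surj v; exact ⟨e s, by show D.κ (e.symm (e s)) = v; rw [e.symm_apply_apply, hs]⟩
    central := fun z hz y => e.symm.injective (by rw [map_mul, map_mul, D.central _ hz])
    ι_mul := fun x y hx hy => by rw [map_mul, D.ι_mul _ _ hx hy]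
    ι_inj := fun x y hx hy h => e.symm.injective (D.ι_inj _ _ hx hy h)
    ι_surj := fun u => by
      obtain ⟨s, hs, hu⟩ := D.ι_surj u
      exact ⟨e s, by rw [e.symm_apply_apply, hs], by rw [e.symm_apply_apply, hu]⟩
    sq := fun x => by rw [map_mul, D.sq]
    ι_sq := fun x => by rw [map_mul, D.ι_sq] }⟩

theorem exists_data_PSU {n : ℕ} (hK : Fintype.card K = 2 ^ n) {g : K}
    (hg : ∀ x : K, x ^ 2 + x + g ≠ 0) :
    ∃ (F : Type) (_ : Field F) (_ : Fintype F), Fintype.card F = 4 ^ n ∧
      ∃ S : Sylow 2 (Cfsg.PSU 3 F (2 ^ n)),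
        Nonempty (SqData (S : Subgroup (Cfsg.PSU 3 F (2 ^ n))) (K × K) K
          (fun v => v.1 ^ 2 + v.1 * v.2 + g * v.2 ^ 2)) := by
  classical
  let f : K[X] := X ^ 2 + X + C g
  have hdeg : f.natDegree = 2 := by simp only [f]; compute_degree!
  have hmon : f.Monic := by simp only [f]; monicity!
  have hirr : Irreducible f := by
    rw [hmon.irreducible_iff_roots_eq_zero_of_degree_le_three (by omega) (by omega)]
    refine Multiset.eq_zero_of_forall_notMem fun x hx => hg x ?_
    rw [Polynomial.mem_roots hmon.ne_zero] at hx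
    simpa [f, Polynomial.IsRoot] using hx
  haveI := Fact.mk hirr
  haveI : Module.Finite K (AdjoinRoot f) := Module.Finite.of_basis (AdjoinRoot.powerBasis hmon.ne_zero).basis
  haveI : Finite (AdjoinRoot f) := Module.finite_of_finite K
  letI : Fintype (AdjoinRoot f) := Fintype.ofFinite _
  have hcard : Fintype.card (AdjoinRoot f) = (2 ^ n) ^ 2 := by
    rw [← Nat.card_eq_fintype_card, Module.natCard_eq_pow_finrank (K := K), Nat.card_eq_fintype_card, hK,
      (AdjoinRoot.powerBasis hmon.ne_zero).finrank, AdjoinRoot.powerBasis_dim, hdeg]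
  refine ⟨AdjoinRoot f, inferInstance, inferInstance, by
    rw [hcard, show (4 : ℕ) = 2 ^ 2 by norm_num, ← pow_mul, ← pow_mul, mul_comm], ?_⟩
  haveI hF2 := U3Sylow.charP_two (n := n) hcard
  let q := 2 ^ n
  let j : K →+* AdjoinRoot f := AdjoinRoot.of f
  let ω : AdjoinRoot f := AdjoinRoot.root f
  have hω : ω ^ 2 + ω + j g = 0 := by
    have := AdjoinRoot.eval₂_root f
    simpa [f, ω, j] using this
  have hjfix : ∀ u, j u ^ q = j u := fun u => by
    rw [← map_pow, show q = Fintype.card K from hK.symm, FiniteField.pow_card]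
  have hωnot : ∀ u, j u ≠ ω := fun u h => by
    refine hg u (j.injective ?_)
    rw [map_zero, map_add, map_add, map_pow, h]
    exact hω
  have hjsurj : ∀ b : AdjoinRoot f, b ^ q = b → ∃ u, j u = b := by
    intro b hb
    let φ : K → {x : AdjoinRoot f // x + x ^ q = 0} := fun u =>
      ⟨j u, by rw [hjfix, CharTwo.add_self_eq_zero]⟩
    have hφ : Function.Bijective φ := by
      rw [Nat.bijective_iff_injective_and_card]
      refine ⟨fun u v h => j.injective (congrArg Subtype.val h), ?_⟩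
      rw [Cfsg.Agent.Lib.Unitary.card_trace_zero hcard, Nat.card_eq_fintype_card, hK]
    obtain ⟨u, hu⟩ := hφ.2 ⟨b, by rw [hb, CharTwo.add_self_eq_zero]⟩
    exact ⟨u, congrArg Subtype.val hu⟩
  have hωq : ω ^ q = ω + 1 := by
    have h1 : (ω ^ q) ^ 2 + ω ^ q + j g = 0 := by
      have h := congrArg (fun x => x ^ q) hω
      simp only [Cfsg.Agent.Lib.Unitary.add_pow_q hcard, q] at h
      rw [zero_pow (pow_ne_zero _ two_ne_zero), hjfix, ← pow_mul, mul_comm 2, pow_mul] at h
      exact h
    have h2 : (ω ^ q - ω) * (ω ^ q + ω + 1) = 0 := by linear_combination h1 - hω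
    rcases mul_eq_zero.1 h2 with h | h
    · obtain ⟨u, hu⟩ := hjsurj ω (sub_eq_zero.1 h)
      exact absurd hu (hωnot u)
    · rw [add_assoc] at h
      exact CharTwo.add_eq_zero.1 h
  let comb : K × K → AdjoinRoot f := fun v => j v.1 + j v.2 * ω
  have comb_add : ∀ v w, comb (v + w) = comb v + comb w := fun v w => by
    simp only [comb, Prod.fst_add, Prod.snd_add, map_add]; ring
  have comb_inj : ∀ v, comb v = 0 → v = 0 := by
    intro v hv
    by_cases h2 : v.2 = 0
    · refine Prod.ext (j.injective ?_) h2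
      simpa [comb, h2] using hv
    · refine absurd ?_ (hωnot (v.1 / v.2))
      rw [map_div₀, div_eq_iff (by simpa using h2)]
      rw [mul_comm]; exact CharTwo.add_eq_zero.1 hv
  let combH : K × K →+ AdjoinRoot f := AddMonoidHom.mk' comb comb_add
  have comb_bij : Function.Bijective comb := by
    rw [Nat.bijective_iff_injective_and_card]
    refine ⟨(injective_iff_map_eq_zero combH).2 comb_inj, ?_⟩
    rw [Nat.card_prod, Nat.card_eq_fintype_card, hK, Nat.card_eq_fintype_card (α := AdjoinRoot f), hcard]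
    ring
  let E : K × K ≃+ AdjoinRoot f := AddEquiv.ofBijective combH comb_bij
  have hN : ∀ v : K × K, comb v ^ q * comb v = j (v.1 ^ 2 + v.1 * v.2 + g * v.2 ^ 2) := by
    intro v
    simp only [comb, q]
    rw [Cfsg.Agent.Lib.Unitary.add_pow_q hcard, mul_pow, hjfix, hjfix, hωq]
    simp only [map_add, map_mul, map_pow]
    linear_combination (j v.2) ^ 2 * hω + (j v.1 * j v.2 * ω - (j g) * j v.2 ^ 2) *
      (CharTwo.two_eq_zero (R := AdjoinRoot f))
  haveI : Fact (Nat.Prime 2) := ⟨Nat.prime_two⟩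
  obtain ⟨S⟩ : Nonempty (Sylow 2 (Cfsg.PSU 3 (AdjoinRoot f) (2 ^ n))) := inferInstance
  obtain ⟨c⟩ := U3Sylow.exists_coords_PSU hcard S
  refine ⟨S, ⟨?_⟩⟩
  have ha : ∀ x, E.symm ((c.equiv x).1.1) = 0 → (c.equiv x).1.1 = 0 := fun x h => by
    rw [← E.apply_symm_apply (c.equiv x).1.1, h, map_zero]
  have hb0 : ∀ x, (c.equiv x).1.1 = 0 → (c.equiv x).1.2 ^ q = (c.equiv x).1.2 := fun x h => by
    have h2 := (c.equiv x).2
    rw [h, zero_mul] at h2
    exact (CharTwo.add_eq_zero.1 h2).symm
  choose back hback using hjsurj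
  let ιc := fun x => if h : (c.equiv x).1.2 ^ q = (c.equiv x).1.2 then back _ h else 0
  have hιc : ∀ x, (c.equiv x).1.1 = 0 → j (ιc x) = (c.equiv x).1.2 := fun x h => by
    simp only [ιc, dif_pos (hb0 x h)]; exact hback _ _
  have hsq1 : ∀ x, (c.equiv (x * x)).1.1 = 0 := fun x => by
    rw [c.mul_fst, CharTwo.add_self_eq_zero]
  exact {
    κ := fun x => E.symm ((c.equiv x).1.1)
    ι := ιc
    κ_mul := fun x y => by rw [c.mul_fst, map_add]
    κ_surj := fun v => by
      obtain ⟨p, hp⟩ := U3Sylow.exists_pair hcard (E v)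
      exact ⟨c.equiv.symm p, by show E.symm _ = v; rw [Equiv.apply_symm_apply, hp, E.symm_apply_apply]⟩
    central := fun z hz y => c.equiv.injective (Subtype.ext (Prod.ext
      (by rw [c.mul_fst, c.mul_fst, add_comm])
      (by rw [c.mul_snd, c.mul_snd, ha z hz, mul_zero, zero_pow (pow_ne_zero _ two_ne_zero), zero_mul]
          ring)))
    ι_mul := fun x y hx hy => j.injective (by
      have hxy : (c.equiv (x * y)).1.1 = 0 := by rw [c.mul_fst, ha x hx, ha y hy, add_zero]
      rw [map_add, hιc _ hxy, hιc _ (ha x hx), hιc _ (ha y hy), c.mul_snd, ha y hy, mul_zero, add_zero])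
    ι_inj := fun x y hx hy h => c.equiv.injective (Subtype.ext (Prod.ext ((ha x hx).trans (ha y hy).symm)
      (by rw [← hιc x (ha x hx), ← hιc y (ha y hy), h])))
    ι_surj := fun u => by
      let p : U3Sylow.Pairs (AdjoinRoot f) (2 ^ n) :=
        ⟨(0, j u), by show j u + j u ^ q = 0 * 0 ^ q; rw [hjfix, CharTwo.add_self_eq_zero, zero_mul]⟩
      refine ⟨c.equiv.symm p, by rw [Equiv.apply_symm_apply]; exact map_zero _, j.injective ?_⟩
      rw [hιc _ (by rw [Equiv.apply_symm_apply]), Equiv.apply_symm_apply]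
    sq := fun x => by rw [hsq1]; exact map_zero _
    ι_sq := fun x => j.injective (by
      rw [hιc _ (hsq1 x), c.mul_snd, CharTwo.add_self_eq_zero, zero_add, ← hN]
      congr 1 <;> rw [show comb (E.symm (c.equiv x).1.1) = (c.equiv x).1.1 from E.apply_symm_apply _]) }

end Cfsg.Agent.Lib.Singer76.Models
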