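import Cfsg.Agent.Lib.RankOne.AutSpan
import Cfsg.Agent.Lib.Suzuki2.Semilinear

/-!
Biadditive maps on `GF(2ⁿ)` that commute with scalars are `√(k·a·b)`.
-/

set_option autoImplicit false
set_option linter.style.haveILetI false

namespace Cfsg.Agent.Lib.Singer76.Monomial

variable {F : Type*} [Field F] [Finite F] [CharP F 2]

/-- `h(μa, μb) = μ² h(a, b)` forces `h(a, b) = k a b`. -/
theorem biadditive_monomial (h : F →+ F →+ F)
    (hh : ∀ μ : F, μ ≠ 0 → ∀ a b, h (μ * a) (μ * b) = μ ^ 2 * h a b) :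
    ∃ k, ∀ a b, h a b = k * (a * b) := by
  classical
  haveI : Fact (Nat.Prime 2) := ⟨Nat.prime_two⟩
  letI : Fintype F := Fintype.ofFinite F
  letI : Algebra (ZMod 2) F := ZMod.algebra F 2
  haveI : Finite (F ≃+* F) := Finite.of_injective (fun σ => (σ : F → F)) DFunLike.coe_injective
  letI := Fintype.ofFinite (F ≃+* F)
  obtain ⟨c, hc⟩ := Cfsg.Agent.Lib.RankOne.AutSpan.exists_coeffs₂ 2 h
  refine ⟨c (1, 1), fun a b => ?_⟩
  let f : (F ≃+* F) × (F ≃+* F) → (F →* F) := fun q =>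
    { toFun := fun x => q.1 x * q.2 x
      map_one' := by simp
      map_mul' := fun x y => by simp only [map_mul]; ring }
  have hf1 : ∀ μ, f (1, 1) μ = μ ^ 2 := fun μ => (sq μ).symm
  have hne : ∀ q : (F ≃+* F) × (F ≃+* F), q ≠ (1, 1) → f q ≠ f (1, 1) := by
    intro q hq hqe
    have h1 := Cfsg.Agent.Lib.Suzuki2.Semilinear.pair_eq q.1 q.2 1 1
      (fun x => DFunLike.congr_fun hqe x)
    have h1' : q.1 = 1 := by rcases h1 with h | h <;> exact h
    refine hq (Prod.ext h1' (RingEquiv.ext fun x => ?_))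
    by_cases hx : x = 0
    · simp [hx]
    · have h2 := DFunLike.congr_fun hqe x
      simp only [f, MonoidHom.coe_mk, OneHom.coe_mk, h1', RingAut.one_apply] at h2
      simpa using mul_left_cancel₀ hx h2
  let d := h a b - c (1, 1) * (a * b)
  suffices hd : d = 0 by exact sub_eq_zero.1 hd
  by_contra hd
  set s := Finset.univ.erase ((1, 1) : (F ≃+* F) × (F ≃+* F)) with hs
  have key : (f (1, 1) : F → F) =
      ∑ q ∈ s, (d⁻¹ * (c q * (q.1 a * q.2 b))) • (f q : F → F) := by
    funext μ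
    simp only [Finset.sum_apply, Pi.smul_apply, smul_eq_mul]
    by_cases hμ : μ = 0
    · subst hμ
      rw [hf1, zero_pow two_ne_zero]
      symm
      refine Finset.sum_eq_zero fun q _ => ?_
      simp [f]
    have e1 := hh μ hμ a b
    rw [hc] at e1
    rw [← Finset.add_sum_erase _ _ (Finset.mem_univ ((1, 1) : (F ≃+* F) × (F ≃+* F))), ← hs] at e1
    simp only [RingAut.one_apply, map_mul] at e1
    rw [hf1]
    have e2 : ∑ q ∈ s, d⁻¹ * (c q * (q.1 a * q.2 b)) * f q μ =
        d⁻¹ * ∑ q ∈ s, c q * (q.1 μ * q.1 a * (q.2 μ * q.2 b)) := by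
      rw [Finset.mul_sum]
      refine Finset.sum_congr rfl fun q _ => ?_
      show _ * (q.1 μ * q.2 μ) = _
      ring
    rw [e2]
    have e3 : ∑ q ∈ s, c q * (q.1 μ * q.1 a * (q.2 μ * q.2 b)) = μ ^ 2 * d := by
      rw [show μ ^ 2 * d = μ ^ 2 * h a b - c (1, 1) * (μ * a * (μ * b)) by simp only [d]; ring]
      linear_combination e1
    rw [e3]
    field_simp
  refine (linearIndependent_monoidHom F F).notMem_span_image (s := f '' s) (x := f (1, 1)) ?_ ?_
  · rintro ⟨q, hq, hqe⟩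
    exact hne q (Finset.ne_of_mem_erase (Finset.mem_coe.1 hq)) hqe
  · rw [key]
    exact Submodule.sum_mem _ fun q hq =>
      Submodule.smul_mem _ _ (Submodule.subset_span ⟨f q, ⟨q, hq, rfl⟩, rfl⟩)

/-- A biadditive map commuting with scalars has square `k a b`. -/
theorem sq_monomial (f : F → F → F) (hl : ∀ a a' b, f (a + a') b = f a b + f a' b)
    (hr : ∀ a b b', f a (b + b') = f a b + f a b')
    (heq : ∀ μ : F, μ ≠ 0 → ∀ a b, f (μ * a) (μ * b) = μ * f a b) :
    ∃ k, ∀ a b, f a b ^ 2 = k * (a * b) := by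
  let h : F →+ F →+ F := AddMonoidHom.mk' (fun a => AddMonoidHom.mk' (fun b => f a b ^ 2)
      (fun b b' => by simp only [hr, CharTwo.add_sq])) (fun a a' => by
    ext b
    simp [hl, CharTwo.add_sq])
  obtain ⟨k, hk⟩ := biadditive_monomial h fun μ hμ a b => by
    show f (μ * a) (μ * b) ^ 2 = _
    rw [heq μ hμ, mul_pow]
    rfl
  exact ⟨k, hk⟩

/-- An alternating one vanishes. -/
theorem alternating_eq_zero (f : F → F → F) (hl : ∀ a a' b, f (a + a') b = f a b + f a' b)
    (hr : ∀ a b b', f a (b + b') = f a b + f a b')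
    (heq : ∀ μ : F, μ ≠ 0 → ∀ a b, f (μ * a) (μ * b) = μ * f a b) (halt : ∀ a, f a a = 0) (a b : F) :
    f a b = 0 := by
  obtain ⟨k, hk⟩ := sq_monomial f hl hr heq
  have h1 := hk 1 1
  rw [halt, zero_pow two_ne_zero, mul_one, mul_one] at h1
  have h2 := hk a b
  rw [← h1, zero_mul] at h2
  exact (pow_eq_zero_iff two_ne_zero).1 h2

end Cfsg.Agent.Lib.Singer76.Monomial
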