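import Cfsg.Agent.Lib.Singer76.Monomial

/-!
2-groups with an involutory automorphism `α` and a commuting automorphism `ρ` that acts on
`C = C_Q(α)` as multiplication by a generator of `GF(2ⁿ)ˣ`.
-/

set_option autoImplicit false
set_option linter.style.haveILetI false
set_option linter.unusedSectionVars false

namespace Cfsg.Agent.Lib.Singer76

open scoped commutatorElement

/-- The hypotheses, with the field coordinate on `C`. -/
structure Setup (Q : Type*) [Group Q] (F : Type*) [Field F] where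
  α : MulAut Q
  ρ : MulAut Q
  C : Subgroup Q
  ι : Q → F
  lam : F
  q1 : ℕ
  isP : IsPGroup 2 Q
  α_sq : ∀ x, α (α x) = x
  comm : ∀ x, α (ρ x) = ρ (α x)
  ρ_pow : ρ ^ q1 = 1
  lam_pow : lam ^ q1 = 1
  q1_odd : Odd q1
  mem : ∀ x, x ∈ C ↔ α x = x
  sqC : ∀ c ∈ C, c * c = 1
  ι_mul : ∀ a ∈ C, ∀ b ∈ C, ι (a * b) = ι a + ι b
  ι_inj : ∀ a ∈ C, ∀ b ∈ C, ι a = ι b → a = b
  ι_surj : ∀ u, ∃ c ∈ C, ι c = u
  ι_ρ : ∀ c ∈ C, ι (ρ c) = lam * ι c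
  gen : ∀ μ : F, μ ≠ 0 → ∃ k : ℕ, μ = lam ^ k

variable {Q : Type*} [Group Q] [Finite Q] {F : Type*} [Field F] [Finite F] [CharP F 2] (S : Setup Q F)

namespace Setup

theorem α_inv {c : Q} (hc : c ∈ S.C) : S.α c = c := (S.mem c).1 hc

theorem inv_C {c : Q} (hc : c ∈ S.C) : c⁻¹ = c := inv_eq_of_mul_eq_one_left (S.sqC c hc)

theorem ρ_mem {x : Q} (hx : x ∈ S.C) : S.ρ x ∈ S.C := by
  rw [S.mem, S.comm, (S.mem x).1 hx]

theorem ι_one : S.ι 1 = 0 := by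
  have := S.ι_mul 1 S.C.one_mem 1 S.C.one_mem
  rw [mul_one] at this
  exact left_eq_add.1 this

theorem ι_eq_zero {c : Q} (hc : c ∈ S.C) : S.ι c = 0 ↔ c = 1 :=
  ⟨fun h => S.ι_inj c hc 1 S.C.one_mem (h.trans S.ι_one.symm), fun h => h ▸ S.ι_one⟩

theorem ρ_pow_mem {x : Q} (hx : x ∈ S.C) (k : ℕ) : (S.ρ ^ k) x ∈ S.C := by
  induction k with
  | zero => simpa using hx
  | succ k ih => rw [pow_succ', MulAut.mul_apply]; exact S.ρ_mem ih

theorem ι_ρ_pow {c : Q} (hc : c ∈ S.C) (k : ℕ) : S.ι ((S.ρ ^ k) c) = S.lam ^ k * S.ι c := by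
  induction k with
  | zero => simp
  | succ k ih =>
    rw [pow_succ', MulAut.mul_apply, S.ι_ρ _ (S.ρ_pow_mem hc k), ih, pow_succ']; ring

theorem lam_ne_zero : S.lam ≠ 0 := by
  intro h
  have := S.lam_pow
  rw [h, zero_pow (Nat.ne_of_gt S.q1_odd.pos)] at this
  exact zero_ne_one this

theorem apply_pow_mem {H : Subgroup Q} (hH : ∀ x ∈ H, S.ρ x ∈ H) {x : Q} (hx : x ∈ H) (k : ℕ) :
    (S.ρ ^ k) x ∈ H := by
  induction k with
  | zero => simpa using hx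
  | succ k ih => rw [pow_succ', MulAut.mul_apply]; exact hH _ ih

/-- An invariant subgroup meeting `C` non-trivially contains it. -/
theorem C_le {H : Subgroup Q} (hH : ∀ x ∈ H, S.ρ x ∈ H) {c : Q} (hc : c ∈ S.C) (hcH : c ∈ H)
    (hc1 : c ≠ 1) : S.C ≤ H := by
  intro d hd
  by_cases hd1 : d = 1
  · subst hd1; exact H.one_mem
  have hιc : S.ι c ≠ 0 := fun h => hc1 ((S.ι_eq_zero hc).1 h)
  have hιd : S.ι d ≠ 0 := fun h => hd1 ((S.ι_eq_zero hd).1 h)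
  obtain ⟨k, hk⟩ := S.gen (S.ι d / S.ι c) (div_ne_zero hιd hιc)
  have : (S.ρ ^ k) c = d := S.ι_inj _ (S.ρ_pow_mem hc k) _ hd (by
    rw [S.ι_ρ_pow hc, ← hk, div_mul_cancel₀ _ hιc])
  exact this ▸ S.apply_pow_mem hH hcH k

omit [Finite Q] in
theorem exists_sq_one (hP : IsPGroup 2 Q) {x : Q} (hx : x ≠ 1) :
    ∃ j : ℕ, x ^ 2 ^ j ≠ 1 ∧ x ^ 2 ^ (j + 1) = 1 := by
  classical
  obtain ⟨k, hk⟩ := hP x
  have h : ∃ j, x ^ 2 ^ j = 1 := ⟨k, hk⟩
  rcases Nat.eq_zero_or_pos (Nat.find h) with h0 | h0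
  · exact absurd (by simpa [h0] using Nat.find_spec h) hx
  · obtain ⟨j, hj⟩ : ∃ j, Nat.find h = j + 1 := ⟨_, (Nat.succ_pred_eq_of_pos h0).symm⟩
    exact ⟨j, Nat.find_min h (by omega), hj ▸ Nat.find_spec h⟩

/-- A non-trivial 2-group has a central involution fixed by `α`. -/
theorem exists_central [Nontrivial Q] : ∃ c ∈ S.C, c ≠ 1 ∧ c ∈ Subgroup.center Q := by
  haveI : Fact (Nat.Prime 2) := ⟨Nat.prime_two⟩
  haveI := S.isP.center_nontrivial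
  obtain ⟨⟨z, hz⟩, hz1⟩ := exists_ne (1 : Subgroup.center Q)
  obtain ⟨j, hj, hj1⟩ := exists_sq_one S.isP (x := z) (fun h => hz1 (Subtype.ext h))
  set w := z ^ 2 ^ j with hw
  have hwc : w ∈ Subgroup.center Q := Subgroup.pow_mem _ hz _
  have hw2 : w * w = 1 := by rw [hw, ← pow_add, ← two_mul, ← pow_succ', hj1]
  have hαc : S.α w ∈ Subgroup.center Q := by
    rw [Subgroup.mem_center_iff] at hwc ⊢
    intro g
    have := congrArg S.α (hwc (S.α g))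
    simpa [S.α_sq] using this
  by_cases h : w * S.α w = 1
  · refine ⟨w, (S.mem w).2 ?_, hj, hwc⟩
    calc S.α w = (w * w) * S.α w := by rw [hw2, one_mul]
      _ = w := by rw [mul_assoc, h, mul_one]
  · refine ⟨w * S.α w, (S.mem _).2 ?_, h, Subgroup.mul_mem _ hwc hαc⟩
    rw [map_mul, S.α_sq]
    exact Subgroup.mem_center_iff.1 hwc (S.α w)

theorem central {c : Q} (hc : c ∈ S.C) : c ∈ Subgroup.center Q := by
  by_cases hQ : ∀ x : Q, x = 1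
  · rw [hQ c]; exact Subgroup.one_mem _
  push Not at hQ
  obtain ⟨x, hx⟩ := hQ
  haveI : Nontrivial Q := ⟨⟨x, 1, hx⟩⟩
  obtain ⟨d, hd, hd1, hdc⟩ := S.exists_central
  refine S.C_le (H := Subgroup.center Q) (fun z hz => ?_) hd hdc hd1 hc
  rw [Subgroup.mem_center_iff] at hz ⊢
  intro g
  have := congrArg S.ρ (hz (S.ρ.symm g))
  simpa using this

theorem comm_C {c : Q} (hc : c ∈ S.C) (x : Q) : x * c = c * x :=
  Subgroup.mem_center_iff.1 (S.central hc) x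

theorem C_normal : S.C.Normal := ⟨fun c hc g => by rwa [S.comm_C hc g, mul_inv_cancel_right]⟩

/-- `x⁻¹ α(x)`. -/
def θ (x : Q) : Q := x⁻¹ * S.α x

theorem θ_α (x : Q) : S.α (S.θ x) = (S.θ x)⁻¹ := by
  simp [θ, S.α_sq]

theorem α_eq (x : Q) : S.α x = x * S.θ x := by simp [θ]

theorem θ_ρ (x : Q) : S.θ (S.ρ x) = S.ρ (S.θ x) := by simp [θ, S.comm]

theorem θ_mul (x y : Q) : S.θ (x * y) = y⁻¹ * S.θ x * y * S.θ y := by
  simp [θ, mul_assoc]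

theorem θ_eq_one {x : Q} : S.θ x = 1 ↔ x ∈ S.C := by
  rw [θ, inv_mul_eq_one, S.mem]; exact eq_comm

theorem θ_C {c : Q} (hc : c ∈ S.C) : S.θ c = 1 := S.θ_eq_one.2 hc

/-- The elements moved by `α` inside `C`. -/
def W : Subgroup Q where
  carrier := {x | S.θ x ∈ S.C}
  one_mem' := by simp [θ]
  mul_mem' := fun {x y} (hx : S.θ x ∈ S.C) (hy : S.θ y ∈ S.C) => by
    show S.θ (x * y) ∈ S.C
    rw [S.θ_mul]
    exact S.C.mul_mem (by rw [mul_assoc _ (S.θ x), ← S.comm_C hx y, inv_mul_cancel_left]; exact hx) hy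
  inv_mem' := fun {x} (hx : S.θ x ∈ S.C) => by
    show S.θ x⁻¹ ∈ S.C
    have h : S.θ x⁻¹ = (S.θ x)⁻¹ := by
      have h1 := S.θ_mul x x⁻¹
      rw [mul_inv_cancel, inv_inv, show S.θ (1 : Q) = 1 by simp [θ],
        S.comm_C hx x, mul_assoc (S.θ x), mul_inv_cancel, mul_one] at h1
      exact eq_inv_of_mul_eq_one_right h1.symm
    rw [h]; exact S.C.inv_mem hx

theorem mem_W {x : Q} : x ∈ S.W ↔ S.θ x ∈ S.C := Iff.rfl

theorem C_le_W : S.C ≤ S.W := fun c hc => by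
  rw [mem_W, S.θ_C hc]; exact S.C.one_mem

theorem θ_mul_W {x : Q} (hx : x ∈ S.W) (y : Q) : S.θ (x * y) = S.θ x * S.θ y := by
  rw [S.θ_mul, mul_assoc _ (S.θ x), ← S.comm_C hx y, inv_mul_cancel_left]

theorem ρ_mem_W {x : Q} (hx : x ∈ S.W) : S.ρ x ∈ S.W := by
  rw [mem_W, S.θ_ρ]; exact S.ρ_mem hx

/-- `W` strictly contains `C` unless `Q = C`. -/
theorem exists_mem_W (h : S.C ≠ ⊤) : ∃ x ∈ S.W, x ∉ S.C := by
  haveI : Fact (Nat.Prime 2) := ⟨Nat.prime_two⟩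
  haveI := S.C_normal
  haveI : Nontrivial (Q ⧸ S.C) := QuotientGroup.nontrivial_iff.mpr h
  haveI := (S.isP.to_quotient S.C).center_nontrivial
  obtain ⟨⟨u, hu⟩, hu1⟩ := exists_ne (1 : Subgroup.center (Q ⧸ S.C))
  obtain ⟨x, rfl⟩ := QuotientGroup.mk_surjective u
  obtain ⟨j, hj, hj1⟩ := exists_sq_one (S.isP.to_quotient S.C) (x := (x : Q ⧸ S.C))
    (fun h => hu1 (Subtype.ext h))
  set y := x ^ 2 ^ j with hy
  have hy1 : y ∉ S.C := fun h => hj (by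
    rw [← QuotientGroup.mk_pow, QuotientGroup.eq_one_iff]; exact h)
  have hy2 : y * y ∈ S.C := by
    rw [hy, ← pow_add, ← two_mul, ← pow_succ', ← QuotientGroup.eq_one_iff, QuotientGroup.mk_pow]
    exact hj1
  have hyc : ∀ g : Q, g⁻¹ * y⁻¹ * g * y ∈ S.C := fun g => by
    rw [← QuotientGroup.eq_one_iff]
    have h1 : (y : Q ⧸ S.C) ∈ Subgroup.center (Q ⧸ S.C) := by
      rw [hy, QuotientGroup.mk_pow]; exact Subgroup.pow_mem _ hu _
    simp only [QuotientGroup.mk_mul, QuotientGroup.mk_inv]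
    rw [mul_assoc _ (g : Q ⧸ S.C), Subgroup.mem_center_iff.1 h1 (g : Q ⧸ S.C)]
    group
  by_cases hn : y * S.α y ∈ S.C
  · refine ⟨y, ?_, hy1⟩
    rw [mem_W]
    have h : S.θ y = (y * y)⁻¹ * (y * S.α y) := by simp [θ, mul_assoc]
    rw [h]
    exact S.C.mul_mem (S.C.inv_mem hy2) hn
  · refine ⟨y * S.α y, ?_, hn⟩
    rw [mem_W]
    have h : S.θ (y * S.α y) = (S.α y)⁻¹ * y⁻¹ * S.α y * y := by simp [θ, S.α_sq, mul_assoc]
    rw [h]
    exact hyc _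

theorem exists_θ_eq (h : S.C ≠ ⊤) {c : Q} (hc : c ∈ S.C) : ∃ x ∈ S.W, S.θ x = c := by
  obtain ⟨x, hx, hxC⟩ := S.exists_mem_W h
  let H : Subgroup Q :=
    { carrier := {c | ∃ x ∈ S.W, S.θ x = c}
      one_mem' := ⟨1, S.W.one_mem, by simp [θ]⟩
      mul_mem' := fun {a b} ⟨x, hx, hxa⟩ ⟨y, hy, hyb⟩ =>
        ⟨x * y, S.W.mul_mem hx hy, by rw [S.θ_mul_W hx, hxa, hyb]⟩
      inv_mem' := fun {a} ⟨x, hx, hxa⟩ => ⟨x⁻¹, S.W.inv_mem hx, by
        have := S.θ_mul_W (S.W.inv_mem hx) x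
        rw [inv_mul_cancel, show S.θ (1 : Q) = 1 by simp [θ], hxa] at this
        exact eq_inv_of_mul_eq_one_left this.symm⟩ }
  exact S.C_le (H := H) (fun a ⟨y, hy, hya⟩ => ⟨S.ρ y, S.ρ_mem_W hy, by rw [S.θ_ρ, hya]⟩)
    hx ⟨x, hx, rfl⟩ (fun h => hxC (S.θ_eq_one.1 h)) hc

/-- The coordinate on `W / C`. -/
def ι₁ (x : Q) : F := S.ι (S.θ x)

theorem ι₁_mul {x : Q} (hx : x ∈ S.W) {y : Q} (hy : y ∈ S.W) : S.ι₁ (x * y) = S.ι₁ x + S.ι₁ y := by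
  rw [ι₁, S.θ_mul_W hx, S.ι_mul _ hx _ hy]; rfl

theorem ι₁_eq_zero {x : Q} (hx : x ∈ S.W) : S.ι₁ x = 0 ↔ x ∈ S.C := by
  rw [ι₁, S.ι_eq_zero hx, S.θ_eq_one]

theorem ι₁_surj (h : S.C ≠ ⊤) (u : F) : ∃ x ∈ S.W, S.ι₁ x = u := by
  obtain ⟨c, hc, rfl⟩ := S.ι_surj u
  obtain ⟨x, hx, rfl⟩ := S.exists_θ_eq h hc
  exact ⟨x, hx, rfl⟩

theorem ι₁_ρ {x : Q} (hx : x ∈ S.W) : S.ι₁ (S.ρ x) = S.lam * S.ι₁ x := by
  rw [ι₁, S.θ_ρ, S.ι_ρ _ hx]; rfl

theorem sq_mem_C {x : Q} (hx : x ∈ S.W) : x * x ∈ S.C := by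
  rw [← S.θ_eq_one, S.θ_mul_W hx]; exact S.sqC _ hx

theorem C_fixed : S.C.map S.α.toMonoidHom = S.C := by
  ext x
  simp only [Subgroup.mem_map]
  exact ⟨fun ⟨y, hy, h⟩ => h ▸ show S.α y ∈ S.C by rwa [(S.mem y).1 hy],
    fun hx => ⟨x, hx, (S.mem x).1 hx⟩⟩

theorem C_fixed' : S.C.map S.ρ.toMonoidHom = S.C :=
  Subgroup.eq_of_le_of_card_ge (by rintro _ ⟨y, hy, rfl⟩; exact S.ρ_mem hy)
    (by rw [Subgroup.card_map_of_injective (f := S.ρ.toMonoidHom) S.ρ.injective])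

/-- The induced setup on `Q / C`. -/
noncomputable def quot (h : S.C ≠ ⊤) :
    haveI := S.C_normal
    Setup (Q ⧸ S.C) F :=
  haveI := S.C_normal
  { α := QuotientGroup.congr S.C S.C S.α S.C_fixed
    ρ := QuotientGroup.congr S.C S.C S.ρ S.C_fixed'
    C := S.W.map (QuotientGroup.mk' S.C)
    ι := fun u => S.ι₁ (Quotient.out u)
    lam := S.lam
    q1 := S.q1
    isP := S.isP.to_quotient _
    α_sq := fun u => by
      obtain ⟨x, rfl⟩ := QuotientGroup.mk_surjective u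
      exact congrArg (QuotientGroup.mk (s := S.C)) (S.α_sq x)
    comm := fun u => by
      obtain ⟨x, rfl⟩ := QuotientGroup.mk_surjective u
      exact congrArg (QuotientGroup.mk (s := S.C)) (S.comm x)
    ρ_pow := by
      have key : ∀ (k : ℕ) (x : Q),
          ((QuotientGroup.congr S.C S.C S.ρ S.C_fixed' : MulAut (Q ⧸ S.C)) ^ k) (x : Q ⧸ S.C) =
            (((S.ρ ^ k) x : Q) : Q ⧸ S.C) := by
        intro k x
        induction k with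
        | zero => rfl
        | succ k ih => rw [pow_succ', MulAut.mul_apply, ih, pow_succ', MulAut.mul_apply]; rfl
      refine MulEquiv.ext fun u => ?_
      obtain ⟨x, rfl⟩ := QuotientGroup.mk_surjective u
      rw [key, S.ρ_pow]; rfl
    lam_pow := S.lam_pow
    q1_odd := S.q1_odd
    mem := fun u => by
      obtain ⟨x, rfl⟩ := QuotientGroup.mk_surjective u
      show _ ↔ ((S.α x : Q) : Q ⧸ S.C) = (x : Q ⧸ S.C)
      rw [QuotientGroup.eq]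
      constructor
      · rintro ⟨y, hy, hyx⟩
        have hc : y⁻¹ * x ∈ S.C := QuotientGroup.eq.1 hyx
        have hxW : x ∈ S.W := by
          have := S.W.mul_mem hy (S.C_le_W hc)
          rwa [mul_inv_cancel_left] at this
        have := S.C.inv_mem hxW
        rwa [θ, mul_inv_rev, inv_inv] at this
      · intro hx
        refine ⟨x, ?_, rfl⟩
        have := S.C.inv_mem hx
        rwa [mul_inv_rev, inv_inv] at this
    sqC := by
      rintro _ ⟨x, hx, rfl⟩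
      rw [← map_mul]
      exact (QuotientGroup.eq_one_iff _).2 (S.sq_mem_C hx)
    ι_mul := by
      rintro _ ⟨x, hx, rfl⟩ _ ⟨y, hy, rfl⟩
      rw [← map_mul]
      have key : ∀ z ∈ S.W, S.ι₁ (Quotient.out ((z : Q ⧸ S.C))) = S.ι₁ z := fun z hz => by
        obtain ⟨⟨c, hc⟩, e⟩ := QuotientGroup.mk_out_eq_mul S.C z
        rw [e, S.ι₁_mul hz (S.C_le_W hc), (S.ι₁_eq_zero (S.C_le_W hc)).2 hc, add_zero]
      show S.ι₁ (Quotient.out (((x * y : Q)) : Q ⧸ S.C)) =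
        S.ι₁ (Quotient.out ((x : Q ⧸ S.C))) + S.ι₁ (Quotient.out ((y : Q ⧸ S.C)))
      rw [key _ (S.W.mul_mem hx hy), key x hx, key y hy, S.ι₁_mul hx hy]
    ι_inj := by
      rintro _ ⟨x, hx, rfl⟩ _ ⟨y, hy, rfl⟩ e
      have key : ∀ z ∈ S.W, S.ι₁ (Quotient.out ((z : Q ⧸ S.C))) = S.ι₁ z := fun z hz => by
        obtain ⟨⟨c, hc⟩, e⟩ := QuotientGroup.mk_out_eq_mul S.C z
        rw [e, S.ι₁_mul hz (S.C_le_W hc), (S.ι₁_eq_zero (S.C_le_W hc)).2 hc, add_zero]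
      replace e : S.ι₁ x = S.ι₁ y := (key x hx).symm.trans (e.trans (key y hy))
      refine QuotientGroup.eq.2 ((S.ι₁_eq_zero (S.W.mul_mem (S.W.inv_mem hx) hy)).1 ?_)
      have h2 := S.ι₁_mul hx (S.W.mul_mem (S.W.inv_mem hx) hy)
      rw [mul_inv_cancel_left, ← e] at h2
      exact left_eq_add.1 h2
    ι_surj := fun u => by
      obtain ⟨x, hx, rfl⟩ := S.ι₁_surj h u
      refine ⟨_, ⟨x, hx, rfl⟩, ?_⟩
      obtain ⟨⟨c, hc⟩, e⟩ := QuotientGroup.mk_out_eq_mul S.C x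
      show S.ι₁ (Quotient.out ((x : Q ⧸ S.C))) = _
      rw [e, S.ι₁_mul hx (S.C_le_W hc), (S.ι₁_eq_zero (S.C_le_W hc)).2 hc, add_zero]
    ι_ρ := by
      rintro _ ⟨x, hx, rfl⟩
      have key : ∀ z ∈ S.W, S.ι₁ (Quotient.out ((z : Q ⧸ S.C))) = S.ι₁ z := fun z hz => by
        obtain ⟨⟨c, hc⟩, e⟩ := QuotientGroup.mk_out_eq_mul S.C z
        rw [e, S.ι₁_mul hz (S.C_le_W hc), (S.ι₁_eq_zero (S.C_le_W hc)).2 hc, add_zero]
      show S.ι₁ (Quotient.out (((S.ρ x : Q)) : Q ⧸ S.C)) = _ * S.ι₁ (Quotient.out ((x : Q ⧸ S.C)))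
      rw [key _ (S.ρ_mem_W hx), key x hx, S.ι₁_ρ hx]
    gen := S.gen }

end Setup

end Cfsg.Agent.Lib.Singer76
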